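import Cfsg.Agent.Lib.WalterUse.Ward.Ree
import Mathlib.GroupTheory.SpecificGroups.Alternating

/-!
The alternating group of degree seven has a cyclic subgroup of order four that is not a TI set.
-/

set_option autoImplicit false
set_option linter.style.haveILetI false

namespace CfsgLib.CyclicTITwo

open Equiv

/-- The element of order four. -/
def fourA : ↥(alternatingGroup (Fin 7)) :=
  ⟨swap 0 3 * swap 0 2 * swap 0 1 * swap 4 5, by rw [Perm.mem_alternatingGroup]; decide +kernel⟩

/-- The element centralising its square. -/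
def threeA : ↥(alternatingGroup (Fin 7)) :=
  ⟨swap 4 6 * swap 4 5, by rw [Perm.mem_alternatingGroup]; decide +kernel⟩

/-- `A₇` is not a group with all cyclic subgroups of prime power order TI. -/
theorem not_cyclicTI_a7 {G : Type*} [Group G] (e : G ≃* alternatingGroup (Fin 7)) :
    ¬ CfsgLib.WalterUse.Ward.CyclicTI G := by
  intro h
  haveI : Finite G := Finite.of_equiv _ e.symm.toEquiv
  have h4 : orderOf (e.symm fourA) = 2 ^ 2 := by
    rw [e.symm.orderOf_eq]
    haveI : Fact (Nat.Prime 2) := ⟨Nat.prime_two⟩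
    exact orderOf_eq_prime_pow (n := 1) (by decide +kernel) (by decide +kernel)
  have hy : e.symm fourA ^ 2 ≠ 1 := by
    rw [← map_pow, ← map_one e.symm, Ne, e.symm.apply_eq_iff_eq]
    decide +kernel
  have hm := h.conj Nat.prime_two two_ne_zero h4 (g := e.symm threeA) hy
    (Subgroup.npow_mem_zpowers _ 2) (by
      rw [← map_pow, ← map_inv, ← map_mul, ← map_mul,
        show threeA⁻¹ * fourA ^ 2 * threeA = fourA ^ 2 by decide +kernel, map_pow]
      exact Subgroup.npow_mem_zpowers _ 2)
  rw [← map_inv, ← map_mul, ← map_mul] at hm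
  obtain ⟨i, hi⟩ := (IsOfFinOrder.mem_powers_iff_mem_zpowers (isOfFinOrder_of_finite _)).2 hm
  have h2 : fourA ^ (i % 4) = threeA * fourA * threeA⁻¹ := by
    apply e.symm.injective
    rw [map_pow]
    refine Eq.trans ?_ hi
    show _ = e.symm fourA ^ i
    rw [← pow_mod_orderOf (e.symm fourA) i, h4]
    norm_num
  have : ∀ j : Fin 4, fourA ^ (j : ℕ) ≠ threeA * fourA * threeA⁻¹ := by decide +kernel
  exact this ⟨i % 4, Nat.mod_lt _ (by norm_num)⟩ h2

end CfsgLib.CyclicTITwo
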