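import Cfsg.Agent.Lib.WalterUse.Ward.TI
import Cfsg.Agent.S0215

/-!
Simple groups whose cyclic subgroups of prime power order are TI sets: the square roots of the involutions.
-/

set_option autoImplicit false
set_option linter.unusedSectionVars false
set_option linter.style.haveILetI false

namespace CfsgLib.CyclicTITwo

open CfsgLib.WalterUse.Ward (CyclicTI)

universe u

variable {G : Type u} [Group G] [Finite G]

/-- An involution with a square root. -/
def Sq (t : G) : Prop := orderOf t = 2 ∧ ∃ x : G, x * x = t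

theorem sq_conj {t : G} (ht : Sq t) (g : G) : Sq (g * t * g⁻¹) := by
  obtain ⟨h, x, hx⟩ := ht
  refine ⟨?_, g * x * g⁻¹, ?_⟩
  · rw [← h]
    exact orderOf_injective (MulAut.conj g).toMonoidHom (MulAut.conj g).injective t
  · rw [← hx]; group

theorem invol_mul_self {t : G} (ht : orderOf t = 2) : t * t = 1 := by
  rw [← pow_two, ← ht, pow_orderOf_eq_one]

theorem invol_inv {t : G} (ht : orderOf t = 2) : t⁻¹ = t := inv_eq_of_mul_eq_one_right (invol_mul_self ht)

theorem invol_ne {t : G} (ht : orderOf t = 2) : t ≠ 1 := fun e => by simp [e] at ht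

theorem orderOf_root {t x : G} (ht : orderOf t = 2) (hx : x * x = t) : orderOf x = 4 := by
  haveI := Fact.mk Nat.prime_two
  refine orderOf_eq_prime_pow (p := 2) (n := 1) ?_ ?_
  · rw [pow_one, pow_two, hx]; exact invol_ne ht
  · rw [show 2 ^ (1 + 1) = 2 * 2 from rfl, pow_mul, show x ^ 2 = t by rw [pow_two, hx], pow_two, invol_mul_self ht]

theorem root_ne_inv {t x : G} (ht : orderOf t = 2) (hx : x * x = t) : x ≠ x⁻¹ := fun e =>
  invol_ne ht (by rw [← hx]; nth_rw 2 [e]; exact mul_inv_cancel x)

/-- `g` normalises a cyclic subgroup of 2-power order when it commutes with its involution. -/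
theorem ti_norm (h : CyclicTI G) {x g : G} {k : ℕ} (hx : orderOf x = 2 ^ (k + 1))
    (hg : Commute g (x ^ 2 ^ k)) : g * x * g⁻¹ ∈ Subgroup.zpowers x := by
  have hne : x ^ 2 ^ k ≠ 1 :=
    pow_ne_one_of_lt_orderOf (by positivity) (by rw [hx]; exact Nat.pow_lt_pow_right (by norm_num) (by omega))
  refine h.conj Nat.prime_two (Nat.succ_ne_zero k) hx hne (Subgroup.pow_mem _ (Subgroup.mem_zpowers x) _) ?_
  rw [mul_assoc, ← hg.eq, inv_mul_cancel_left]
  exact Subgroup.pow_mem _ (Subgroup.mem_zpowers x) _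

/-- An element commuting with `t` fixes or inverts every root of `t`. -/
theorem root_conj (h : CyclicTI G) {t x g : G} (ht : orderOf t = 2) (hx : x * x = t) (hg : Commute g t) :
    g * x * g⁻¹ = x ∨ g * x * g⁻¹ = x⁻¹ := by
  have ho := orderOf_root ht hx
  have hmem := ti_norm h (k := 1) (x := x) (g := g) ho (by rw [pow_one, pow_two, hx]; exact hg)
  obtain ⟨n, hn⟩ := Subgroup.mem_zpowers_iff.mp hmem
  have hc : orderOf (g * x * g⁻¹) = 4 :=
    (orderOf_injective (MulAut.conj g).toMonoidHom (MulAut.conj g).injective x).trans ho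
  have hmod : x ^ n = x ^ (n % 4) := by rw [← zpow_mod_orderOf, ho]; rfl
  have h0 : 0 ≤ n % 4 := Int.emod_nonneg n (by norm_num)
  have h4 : n % 4 < 4 := Int.emod_lt_of_pos n (by norm_num)
  rw [← hn, hmod] at hc
  rw [← hn, hmod]
  obtain e | e | e | e : n % 4 = 0 ∨ n % 4 = 1 ∨ n % 4 = 2 ∨ n % 4 = 3 := by omega
  · rw [e] at hc; simp at hc
  · rw [e]; exact Or.inl (zpow_one x)
  · exfalso
    rw [e, zpow_two, hx, ht] at hc
    omega
  · rw [e]
    refine Or.inr (eq_inv_of_mul_eq_one_left ?_)
    rw [← zpow_add_one, show (3 : ℤ) + 1 = ((4 : ℕ) : ℤ) from rfl, zpow_natCast, ← ho, pow_orderOf_eq_one]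

/-- If `s` centralises a root of `t`, then `t` centralises every root of `s`. -/
theorem cent_symm (h : CyclicTI G) {t s x y : G} (hs : orderOf s = 2) (hx : x * x = t)
    (hy : y * y = s) (hts : Commute t s) (hsx : Commute s x) : Commute t y := by
  have key : x * (x * y * x⁻¹) * x⁻¹ = y := by
    rcases root_conj h hs hy hsx.symm with e | e
    · rw [e, e]
    · rw [e, show x * y⁻¹ * x⁻¹ = (x * y * x⁻¹)⁻¹ by group, e, inv_inv]
  rw [show x * (x * y * x⁻¹) * x⁻¹ = (x * x) * y * (x * x)⁻¹ by group, hx] at key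
  exact mul_inv_eq_iff_eq_mul.mp key

/-- Roots of two involutions one of which centralises the root of the other commute. -/
theorem roots_comm_pair (h : CyclicTI G) {t s x y : G} (ht : orderOf t = 2) (hs : orderOf s = 2) (hne : t ≠ s)
    (hx : x * x = t) (hy : y * y = s) (hts : Commute t s) (hsx : Commute s x) : Commute x y := by
  have hty := cent_symm h hs hx hy hts hsx
  rcases root_conj h ht hx hty.symm with e | e
  · exact (mul_inv_eq_iff_eq_mul.mp e).symm
  exfalso
  have e1 : x * y * x⁻¹ * y⁻¹ = t := by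
    rw [show x * y * x⁻¹ * y⁻¹ = x * (y * x * y⁻¹)⁻¹ by group, e, inv_inv, hx]
  rcases root_conj h hs hy hsx.symm with e' | e'
  · rw [e', mul_inv_cancel] at e1
    exact invol_ne ht e1.symm
  · rw [e', ← mul_inv_rev, hy, invol_inv hs] at e1
    exact hne e1.symm

theorem root_mul {t s x y : G} (hx : x * x = t) (hy : y * y = s) (hc : Commute x y) : (x * y) * (x * y) = t * s := by
  rw [hc.symm.mul_mul_mul_comm, hx, hy]

theorem orderOf_mul_invol {t s : G} (ht : orderOf t = 2) (hs : orderOf s = 2) (hne : t ≠ s) (hts : Commute t s) :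
    orderOf (t * s) = 2 := by
  haveI := Fact.mk Nat.prime_two
  refine orderOf_eq_prime ?_ fun e => hne ?_
  · rw [pow_two, hts.symm.mul_mul_mul_comm, invol_mul_self ht, invol_mul_self hs, one_mul]
  · rw [mul_eq_one_iff_eq_inv.mp e, invol_inv hs]

/-- No involution inverts a root of `t` while commuting with one that centralises it. -/
theorem triangle (h : CyclicTI G) {t u s x : G} (ht : orderOf t = 2) (hu : Sq u) (hs : Sq s)
    (hx : x * x = t) (hux : u * x * u⁻¹ = x⁻¹) (hsx : Commute s x) (hne : t ≠ s) (htu : Commute t u)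
    (hts : Commute t s) (hus : Commute u s) : False := by
  obtain ⟨huo, y, hy⟩ := hu
  obtain ⟨hso, z, hz⟩ := hs
  have hxz := roots_comm_pair h ht hso hne hx hz hts hsx
  have hts2 := orderOf_mul_invol ht hso hne hts
  have hroot := root_mul hx hz hxz
  have hxne := root_ne_inv ht hx
  have hzne := root_ne_inv hso hz
  rcases root_conj h huo hy hus.symm with e | e
  · -- `u` centralises `z`
    have huz : Commute u z := cent_symm h hso hy hz hus (mul_inv_eq_iff_eq_mul.mp e)
    have e1 : u * (x * z) * u⁻¹ = x⁻¹ * z := by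
      rw [show u * (x * z) * u⁻¹ = (u * x * u⁻¹) * (u * z * u⁻¹) by group, hux, huz.eq, mul_inv_cancel_right]
    rcases root_conj h hts2 hroot (htu.symm.mul_right hus) with e2 | e2 <;> rw [e1] at e2
    · exact hxne (mul_right_cancel e2).symm
    · rw [hxz.mul_inv] at e2
      exact hzne (mul_left_cancel e2)
  · -- `t * s` centralises `y`
    have hty : t * y * t⁻¹ = y⁻¹ := by
      rcases root_conj h huo hy htu with e' | e'
      · exfalso
        have hc := cent_symm h ht hy hx htu.symm (mul_inv_eq_iff_eq_mul.mp e')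
        rw [hc.eq, mul_inv_cancel_right] at hux
        exact hxne hux
      · exact e'
    have hc : Commute (t * s) y := by
      refine mul_inv_eq_iff_eq_mul.mp ?_
      rw [show t * s * y * (t * s)⁻¹ = t * (s * y * s⁻¹) * t⁻¹ by group, e,
        show t * y⁻¹ * t⁻¹ = (t * y * t⁻¹)⁻¹ by group, hty, inv_inv]
    have hz2 := cent_symm h hts2 hy hroot (htu.symm.mul_right hus) hc
    have hzi : u * z * u⁻¹ = z⁻¹ := by
      rcases root_conj h hso hz hus with e' | e'
      · exfalso
        have hc2 := cent_symm h huo hz hy hus.symm (mul_inv_eq_iff_eq_mul.mp e')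
        rw [hc2.eq, mul_inv_cancel_right] at e
        exact root_ne_inv huo hy e
      · exact e'
    refine root_ne_inv hts2 hroot ?_
    calc x * z = u * (x * z) * u⁻¹ := by rw [hz2.eq, mul_inv_cancel_right]
      _ = x⁻¹ * z⁻¹ := by rw [show u * (x * z) * u⁻¹ = (u * x * u⁻¹) * (u * z * u⁻¹) by group, hux, hzi]
      _ = (x * z)⁻¹ := by rw [mul_inv_rev, (hxz.inv_inv).eq]

/-- An involution that inverts a root of `t` makes `t * u` a square involution. -/
theorem sq_mul_of_inverts {t u x : G} (hu : Sq u) (hx : x * x = t) (hux : u * x * u⁻¹ = x⁻¹) : Sq (t * u) := by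
  have e : x * u * x⁻¹ = t * u := by
    rw [← hux, ← hx]
    nth_rw 1 [← invol_inv hu.1]
    have h1 : u * x * u⁻¹ * u = u * x := inv_mul_cancel_right _ _
    have h2 := invol_mul_self hu.1
    calc x * u⁻¹ * (u * x * u⁻¹) = x * x * u⁻¹ := by group
      _ = x * x * u := by rw [invol_inv hu.1]
  exact e ▸ sq_conj hu x

/-- A product of two commuting square involutions is one. -/
theorem sq_mul (h : CyclicTI G) {t s : G} (ht : Sq t) (hs : Sq s) (hne : t ≠ s) (hts : Commute t s) : Sq (t * s) := by
  obtain ⟨x, hx⟩ := ht.2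
  obtain ⟨y, hy⟩ := hs.2
  rcases root_conj h ht.1 hx hts.symm with e | e
  · exact ⟨orderOf_mul_invol ht.1 hs.1 hne hts, x * y,
      root_mul hx hy (roots_comm_pair h ht.1 hs.1 hne hx hy hts (mul_inv_eq_iff_eq_mul.mp e))⟩
  · exact sq_mul_of_inverts hs hx e

variable [IsSimpleGroup G]

theorem no_index_two (hG : ¬ IsMulCommutative G) {M : Subgroup G} (hM : M.Normal) (hi : M.index = 2) : False := by
  rcases IsSimpleGroup.eq_bot_or_eq_top_of_normal M hM with rfl | rfl
  · rw [Subgroup.index_bot] at hi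
    haveI := Fact.mk Nat.prime_two
    haveI : IsCyclic G := isCyclic_of_prime_card hi
    letI := IsCyclic.commGroup (α := G)
    exact hG ⟨⟨fun a b => mul_comm a b⟩⟩
  · simp at hi

/-- A further conjugate of a square involution commutes with it. -/
theorem exists_conj_commute (hG : ¬ IsMulCommutative G) {t : G} (ht : orderOf t = 2) :
    ∃ g : G, g * t * g⁻¹ ≠ t ∧ Commute t (g * t * g⁻¹) := by
  by_contra hc
  push Not at hc
  haveI := Fact.mk Nat.prime_two
  obtain ⟨P, hP⟩ := (IsPGroup.of_card (n := 1) (by rw [Nat.card_zpowers, ht, pow_one]) :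
    IsPGroup 2 (Subgroup.zpowers t)).exists_le_sylow
  have htP : t ∈ P := hP (Subgroup.mem_zpowers t)
  have hiso : ∀ g : G, g * t * g⁻¹ ∈ P → g * t * g⁻¹ = t := by
    intro g hg
    by_contra hne
    set s := g * t * g⁻¹ with hs
    have hso : orderOf s = 2 := (orderOf_injective (MulAut.conj g).toMonoidHom (MulAut.conj g).injective t).trans ht
    obtain ⟨n, hn⟩ := P.2 ⟨t * s, mul_mem htP hg⟩
    obtain ⟨k, -, hk⟩ := (Nat.dvd_prime_pow Nat.prime_two).mp
      (orderOf_dvd_of_pow_eq_one (congrArg Subtype.val hn : (t * s) ^ 2 ^ n = 1))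
    have hd : t * (t * s) * t⁻¹ = (t * s)⁻¹ := by
      rw [mul_inv_rev, invol_inv hso, invol_inv ht, ← mul_assoc, invol_mul_self ht, one_mul]
    by_cases hk1 : k ≤ 1
    · refine hc g hne ?_
      have h2 : (t * s) ^ 2 = 1 :=
        orderOf_dvd_iff_pow_eq_one.mp (hk ▸ (pow_one 2 ▸ pow_dvd_pow 2 hk1 : 2 ^ k ∣ 2))
      show t * s = s * t
      rw [pow_two] at h2
      rw [eq_inv_of_mul_eq_one_left h2, mul_inv_rev, invol_inv hso, invol_inv ht]
    obtain ⟨j, rfl⟩ : ∃ j, k = j + 2 := ⟨k - 2, by omega⟩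
    set e := (t * s) ^ 2 ^ j with he
    have hte : t * e * t⁻¹ = e⁻¹ := by rw [he, ← conj_pow, hd, inv_pow]
    have he2 : e * e ≠ 1 := by
      rw [he, ← pow_add]
      refine pow_ne_one_of_lt_orderOf (by positivity) ?_
      rw [hk, ← two_mul, ← pow_succ']
      exact Nat.pow_lt_pow_right (by norm_num) (by omega)
    have he4 : e * e * (e * e) = 1 := by
      rw [he, ← pow_add, ← pow_add, show 2 ^ j + 2 ^ j + (2 ^ j + 2 ^ j) = 2 ^ (j + 2) by ring, ← hk,
        pow_orderOf_eq_one]
    have hconj : e * t * e⁻¹ = e * e * t := by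
      have h' : e⁻¹ = t * e * t := by rw [← hte, invol_inv ht]
      calc e * t * e⁻¹ = e * (t * t) * e * t := by rw [h']; group
        _ = e * e * t := by rw [invol_mul_self ht, mul_one]
    refine hc e (fun h1 => he2 ?_) ?_
    · rw [hconj] at h1
      exact mul_right_cancel (h1.trans (one_mul t).symm)
    · rw [hconj]
      show t * (e * e * t) = e * e * t * t
      have hee : t * (e * e) * t⁻¹ = e * e := by
        rw [show t * (e * e) * t⁻¹ = (t * e * t⁻¹) * (t * e * t⁻¹) by group, hte, ← mul_inv_rev]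
        exact inv_eq_of_mul_eq_one_right he4
      rw [show t * (e * e * t) = (t * (e * e)) * t by group, mul_inv_eq_iff_eq_mul.mp hee]
  obtain ⟨N, hN, hodd, hN'⟩ := Cfsg.Agent.S0215.result P t ht htP hiso
  rcases IsSimpleGroup.eq_bot_or_eq_top_of_normal N hN with rfl | rfl
  · have hcen : t ∈ Subgroup.center G := Subgroup.mem_center_iff.mpr fun g => by
      have := Subgroup.mem_bot.mp (hN' g)
      rw [mul_inv_eq_one, mul_inv_eq_iff_eq_mul] at this
      exact this.symm
    rcases IsSimpleGroup.eq_bot_or_eq_top_of_normal (Subgroup.center G) inferInstance with e | e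
    · rw [e, Subgroup.mem_bot] at hcen
      exact invol_ne ht hcen
    · exact hG ⟨⟨fun a b => Subgroup.mem_center_iff.mp (e ▸ Subgroup.mem_top b) a⟩⟩
  · rw [Subgroup.card_top] at hodd
    exact Nat.not_even_iff_odd.mpr hodd (even_iff_two_dvd.mpr (ht ▸ orderOf_dvd_natCard t))

/-- The roots of an involution commute with one another. -/
theorem roots_comm (h : CyclicTI G) (hG : ¬ IsMulCommutative G) {t x z : G} (ht : orderOf t = 2) (hx : x * x = t)
    (hz : z * z = t) : Commute x z := by
  by_contra hne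
  have hzt : Commute z t := hz ▸ (Commute.refl z).mul_right (Commute.refl z)
  have hzx : z * x * z⁻¹ = x⁻¹ := (root_conj h ht hx hzt).resolve_left fun e =>
    hne (mul_inv_eq_iff_eq_mul.mp e).symm
  have hxz : (x * z) * (x * z) = t := by
    rw [show x * z * (x * z) = x * (z * x * z⁻¹) * (z * z) by group, hzx, mul_inv_cancel, one_mul, hz]
  obtain ⟨g, hgne, hgc⟩ := exists_conj_commute hG ht
  set s := g * t * g⁻¹
  have hs : Sq s := sq_conj ⟨ht, x, hx⟩ g
  obtain ⟨y, hy⟩ := hs.2
  rcases root_conj h ht hx hgc.symm with e | e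
  · have hsx : Commute s x := mul_inv_eq_iff_eq_mul.mp e
    have hxy := roots_comm_pair h ht hs.1 (Ne.symm hgne) hx hy hgc hsx
    have hty := cent_symm h hs.1 hx hy hgc hsx
    have hsz : Commute s z := cent_symm h ht hy hz hgc.symm hty
    have hzy := roots_comm_pair h ht hs.1 (Ne.symm hgne) hz hy hgc hsz
    have hts2 := orderOf_mul_invol ht hs.1 (Ne.symm hgne) hgc
    have e1 : z * (x * y) * z⁻¹ = x⁻¹ * y := by
      rw [show z * (x * y) * z⁻¹ = (z * x * z⁻¹) * (z * y * z⁻¹) by group, hzx, hzy.eq, mul_inv_cancel_right]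
    rcases root_conj h hts2 (root_mul hx hy hxy) (hzt.mul_right hsz.symm) with e2 | e2 <;> rw [e1] at e2
    · exact root_ne_inv ht hx (mul_right_cancel e2).symm
    · rw [hxy.mul_inv] at e2
      exact root_ne_inv hs.1 hy (mul_left_cancel e2)
  · have hz' : s * z * s⁻¹ = z⁻¹ := by
      rcases root_conj h ht hz hgc.symm with e' | e'
      · exfalso
        have hty := cent_symm h hs.1 hz hy hgc (mul_inv_eq_iff_eq_mul.mp e')
        have hsx : Commute s x := cent_symm h ht hy hx hgc.symm hty
        rw [hsx.eq, mul_inv_cancel_right] at e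
        exact root_ne_inv ht hx e
      · exact e'
    have hxz' : s * (x * z) * s⁻¹ = x⁻¹ * z⁻¹ := by
      rw [show s * (x * z) * s⁻¹ = (s * x * s⁻¹) * (s * z * s⁻¹) by group, e, hz']
    rcases root_conj h ht hxz hgc.symm with e2 | e2 <;> rw [hxz'] at e2
    · exfalso
      have hty := cent_symm h hs.1 hxz hy hgc (mul_inv_eq_iff_eq_mul.mp (hxz'.trans e2))
      have hsx : Commute s x := cent_symm h ht hy hx hgc.symm hty
      rw [hsx.eq, mul_inv_cancel_right] at e
      exact root_ne_inv ht hx e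
    · rw [mul_inv_rev] at e2
      exact hne (Commute.inv_inv_iff.mp e2)

end CfsgLib.CyclicTITwo
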