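import Cfsg.Agent.Lib.CyclicTITwo.NoB

/-!
Simple groups whose cyclic subgroups of prime power order are TI sets: the Sylow 2-subgroups through an involution
inverting a square root of an involution.
-/

set_option autoImplicit false
set_option linter.unusedSectionVars false
set_option linter.style.haveILetI false

namespace CfsgLib.CyclicTITwo

open CfsgLib.WalterUse.Ward (CyclicTI)

universe u

variable {G : Type u} [Group G] [Finite G]

/-- An involution centralising one root of `t` centralises all of them. -/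
theorem cent_all (h : CyclicTI G) {t s x x' : G} (ht : orderOf t = 2) (hs : Sq s) (hx : x * x = t) (hx' : x' * x' = t)
    (hts : Commute t s) (hsx : Commute s x) : Commute s x' := by
  obtain ⟨hso, y, hy⟩ := hs
  exact cent_symm h ht hy hx' hts.symm (cent_symm h hso hx hy hts hsx)

/-- An involution `u` inverting a root `x` of `t`, in a maximal 2-subgroup `T` centralising `t`. -/
structure Frame (t u x : G) (T : Subgroup G) : Prop where
  ht : orderOf t = 2
  hu : Sq u
  hx : x * x = t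
  hux : u * x * u⁻¹ = x⁻¹
  htu : Commute t u
  hT : IsPGroup 2 T
  uT : u ∈ T
  xT : x ∈ T
  comm : ∀ g ∈ T, Commute g t
  maxl : ∀ Q : Subgroup G, IsPGroup 2 Q → T ≤ Q → (∀ g ∈ Q, Commute g t) → Q = T

/-- The part of `T` centralising the root. -/
def core (T : Subgroup G) (x : G) : Subgroup G := T ⊓ Subgroup.centralizer ({x} : Set G)

theorem mem_core {T : Subgroup G} {x g : G} : g ∈ core T x ↔ g ∈ T ∧ Commute g x :=
  Iff.and Iff.rfl Subgroup.mem_centralizer_singleton_iff

/-- A 2-group centralising `t` that contains `u` and `x` lies in a frame. -/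
theorem exists_frame {t u x : G} {T₀ : Subgroup G} (ht : orderOf t = 2) (hu : Sq u) (hx : x * x = t)
    (hux : u * x * u⁻¹ = x⁻¹) (htu : Commute t u) (hT₀ : IsPGroup 2 T₀) (uT : u ∈ T₀) (xT : x ∈ T₀)
    (hc : ∀ g ∈ T₀, Commute g t) : ∃ T, T₀ ≤ T ∧ Frame t u x T := by
  obtain ⟨T, hle, hmax⟩ := Finite.exists_le_maximal
    (p := fun Q : Subgroup G => IsPGroup 2 Q ∧ ∀ g ∈ Q, Commute g t) (a := T₀) ⟨hT₀, hc⟩
  exact ⟨T, hle, ht, hu, hx, hux, htu, hmax.prop.1, hle uT, hle xT, hmax.prop.2,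
    fun Q h1 h2 h3 => le_antisymm (hmax.2 ⟨h1, h3⟩ h2) h2⟩

/-- An inverting involution gives a frame. -/
theorem exists_frame_of_inverts {t u x : G} (ht : orderOf t = 2) (hu : Sq u) (hx : x * x = t)
    (hux : u * x * u⁻¹ = x⁻¹) (htu : Commute t u) : ∃ T, Frame t u x T := by
  haveI := Fact.mk Nat.prime_two
  have h1 : IsPGroup 2 (Subgroup.zpowers u) :=
    IsPGroup.of_card (n := 1) (by rw [Nat.card_zpowers, hu.1, pow_one])
  have h2 : IsPGroup 2 (Subgroup.zpowers x) :=
    IsPGroup.of_card (n := 2) (by rw [Nat.card_zpowers, orderOf_root ht hx]; rfl)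
  have hn : Subgroup.zpowers u ≤ Subgroup.normalizer (Subgroup.zpowers x : Set G) := by
    rw [Subgroup.zpowers_le, Subgroup.mem_normalizer_iff]
    intro g
    constructor
    · intro hg
      obtain ⟨n, rfl⟩ := Subgroup.mem_zpowers_iff.mp hg
      rw [← conj_zpow, hux]
      exact Subgroup.zpow_mem _ (inv_mem (Subgroup.mem_zpowers x)) n
    · intro hg
      obtain ⟨n, hn⟩ := Subgroup.mem_zpowers_iff.mp hg
      refine Subgroup.mem_zpowers_iff.mpr ⟨-n, ?_⟩
      have e : u⁻¹ * x ^ n * u = g := by rw [hn]; group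
      rw [← e]
      have hu2 : u⁻¹ * x * u = x⁻¹ := by
        nth_rw 2 [← invol_inv hu.1]
        nth_rw 1 [invol_inv hu.1]
        exact hux
      rw [zpow_neg, ← inv_zpow, ← hu2]
      simpa using (conj_zpow (a := u⁻¹) (b := x) (i := n))
  obtain ⟨T, -, hF⟩ := exists_frame ht hu hx hux htu (IsPGroup.to_sup_of_normal_right' h1 h2 hn)
    (le_sup_left (b := Subgroup.zpowers x) (Subgroup.mem_zpowers u))
    (le_sup_right (a := Subgroup.zpowers u) (Subgroup.mem_zpowers x)) (fun g hg => by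
      have hle : Subgroup.zpowers u ⊔ Subgroup.zpowers x ≤ Subgroup.centralizer ({t} : Set G) := by
        refine sup_le ?_ ?_ <;> rw [Subgroup.zpowers_le, Subgroup.mem_centralizer_singleton_iff]
        · exact htu.symm
        · exact hx ▸ (mul_assoc x x x).symm
      exact Subgroup.mem_centralizer_singleton_iff.mp (hle hg))
  exact ⟨T, hF⟩

namespace Frame

variable {t u x : G} {T : Subgroup G} (F : Frame t u x T)
include F

theorem sqt : Sq t := ⟨F.ht, x, F.hx⟩

theorem tT : t ∈ T := F.hx ▸ mul_mem F.xT F.xT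

theorem x_core : x ∈ core T x := mem_core.mpr ⟨F.xT, Commute.refl x⟩

theorem t_core : t ∈ core T x := by
  have := mul_mem F.x_core F.x_core
  rwa [F.hx] at this

theorem u_not_core : u ∉ core T x := fun hm => root_ne_inv F.ht F.hx (by
  conv_rhs => rw [← F.hux, (mem_core.mp hm).2.eq, mul_inv_cancel_right])

variable [IsSimpleGroup G] (h : CyclicTI G) (hG : ¬ IsMulCommutative G)
include h hG

/-- `u` inverts every root of `t`. -/
theorem inv_root {y : G} (hy : y * y = t) : u * y * u⁻¹ = y⁻¹ := by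
  refine (root_conj h F.ht hy F.htu.symm).resolve_left fun e => root_ne_inv F.ht F.hx ?_
  have hc : Commute u x := cent_all h F.ht F.hu hy F.hx F.htu (mul_inv_eq_iff_eq_mul.mp e)
  conv_rhs => rw [← F.hux, hc.eq, mul_inv_cancel_right]

theorem no_root_commute {y : G} (hy : y * y = t) (hc : Commute u y) : False := by
  refine root_ne_inv F.ht hy ?_
  conv_rhs => rw [← F.inv_root h hG hy, hc.eq, mul_inv_cancel_right]

/-- The only square involution centralising the root is `t`. -/
theorem sq_core {s : G} (hs : s ∈ core T x) (hsq : Sq s) : s = t := by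
  obtain ⟨hsT, hsx⟩ := mem_core.mp hs
  by_contra hne
  have hts : Commute t s := (F.comm s hsT).symm
  set s' := u * s * u⁻¹ with hs'
  have hsq' : Sq s' := sq_conj hsq u
  have hs'T : s' ∈ T := mul_mem (mul_mem F.uT hsT) (inv_mem F.uT)
  have hts' : Commute t s' := (F.comm s' hs'T).symm
  have hs'x : Commute s' x := by
    refine Commute.inv_right_iff.mp ?_
    rw [← F.hux]
    show u * s * u⁻¹ * (u * x * u⁻¹) = u * x * u⁻¹ * (u * s * u⁻¹)
    calc u * s * u⁻¹ * (u * x * u⁻¹) = u * (s * x) * u⁻¹ := by group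
      _ = u * (x * s) * u⁻¹ := by rw [hsx.eq]
      _ = _ := by group
  have hus : s' ≠ s := fun e =>
    triangle h F.ht F.hu hsq F.hx F.hux hsx (Ne.symm hne) F.htu hts (mul_inv_eq_iff_eq_mul.mp e)
  have hss : Commute s s' := by
    obtain ⟨k, hk⟩ := exists_pow_two_order T F.hT (mul_mem hsT hs'T)
    rcases Nat.lt_or_ge k 2 with hk2 | hk2
    · have h2 : (s * s') ^ 2 = 1 := by
        refine orderOf_dvd_iff_pow_eq_one.mp (hk ▸ ?_)
        calc 2 ^ k ∣ 2 ^ 1 := pow_dvd_pow 2 (by omega)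
          _ = 2 := pow_one 2
      rw [pow_two] at h2
      show s * s' = s' * s
      rw [eq_inv_of_mul_eq_one_left h2, mul_inv_rev, invol_inv hsq'.1, invol_inv hsq.1]
    exfalso
    obtain ⟨j, rfl⟩ : ∃ j, k = j + 2 := ⟨k - 2, by omega⟩
    have hd : s * (s * s') * s⁻¹ = (s * s')⁻¹ := by
      rw [mul_inv_rev, invol_inv hsq'.1, invol_inv hsq.1, ← mul_assoc, invol_mul_self hsq.1, one_mul]
    have hr := sq_top hk
    set z := (s * s') ^ 2 ^ j with hz
    set r := (s * s') ^ 2 ^ (j + 1) with hr'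
    have hzz : z * z = r := by rw [hz, hr', ← pow_add, ← two_mul, ← pow_succ']
    have hsz : s * z * s⁻¹ = z⁻¹ := by rw [hz, ← conj_pow, hd, inv_pow]
    have hnc : ¬ Commute s z := fun hc => root_ne_inv hr.1 hzz (by
      conv_rhs => rw [← hsz, hc.eq, mul_inv_cancel_right])
    have hzT : z ∈ T := pow_mem (mul_mem hsT hs'T) _
    have hrs : Commute r s := by
      refine (mul_inv_eq_iff_eq_mul.mp ?_).symm
      rw [hr', ← conj_pow, hd, inv_pow, ← hr', invol_inv hr.1]
    have hrt : r ≠ t := fun e => hnc (cent_all h F.ht hsq F.hx (hzz.trans e) hts hsx)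
    exact triangle h hr.1 hsq F.sqt hzz hsz (F.comm z hzT).symm hrt hrs (F.comm r (pow_mem (mul_mem hsT hs'T) _))
      hts.symm
  have hp : s * s' = t := by
    by_contra hpne
    have hpS := sq_mul h hsq hsq' hus.symm hss
    have hup : Commute u (s * s') := by
      refine mul_inv_eq_iff_eq_mul.mp ?_
      calc u * (s * s') * u⁻¹ = (u * s * u⁻¹) * (u * u * s * (u * u)⁻¹) := by rw [hs']; group
        _ = s * s' := by rw [invol_mul_self F.hu.1, inv_one, one_mul, mul_one, ← hs', hss.eq]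
    exact triangle h F.ht F.hu hpS F.hx F.hux (hsx.mul_left hs'x) (Ne.symm hpne) F.htu (hts.mul_right hts') hup
  obtain ⟨z, hz⟩ := hsq.2
  set z' := u * z * u⁻¹ with hz'
  have hzz' : z' * z' = s' := by rw [hz', hs', ← hz]; group
  have htz : Commute t z := cent_symm h hsq.1 F.hx hz hts hsx
  have hs'z : Commute s' z := by
    rcases root_conj h hsq.1 hz hss.symm with e | e
    · exact mul_inv_eq_iff_eq_mul.mp e
    · exact (triangle h hsq.1 hsq' F.sqt hz e htz hne hss hts.symm hts'.symm).elim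
  have hzc : Commute z z' := roots_comm_pair h hsq.1 hsq'.1 hus.symm hz hzz' hss hs'z
  have hw : (z * z') * (z * z') = t := by rw [root_mul hz hzz' hzc, hp]
  refine F.no_root_commute h hG hw (mul_inv_eq_iff_eq_mul.mp ?_)
  calc u * (z * z') * u⁻¹ = (u * z * u⁻¹) * (u * u * z * (u * u)⁻¹) := by rw [hz']; group
    _ = z * z' := by rw [invol_mul_self F.hu.1, inv_one, one_mul, mul_one, ← hz', hzc.eq]

theorem top_eq {g : G} (hg : g ∈ core T x) {k : ℕ} (hk : orderOf g = 2 ^ (k + 2)) : g ^ 2 ^ (k + 1) = t :=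
  F.sq_core h hG (pow_mem hg _) (sq_top hk)

theorem core_invol_root {v : G} (hv : v ∈ core T x) (hvo : v * v = 1) : (v * x) * (v * x) = t := by
  rw [(mem_core.mp hv).2.symm.mul_mul_mul_comm, hvo, F.hx, one_mul]

theorem core_invol_u {v : G} (hv : v ∈ core T x) (hvo : v * v = 1) : Commute u v := by
  refine mul_inv_eq_iff_eq_mul.mp ?_
  have e := F.inv_root h hG (F.core_invol_root h hG hv hvo)
  rw [show u * (v * x) * u⁻¹ = (u * v * u⁻¹) * (u * x * u⁻¹) by group, F.hux, (mem_core.mp hv).2.eq, mul_inv_rev,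
    inv_eq_of_mul_eq_one_right hvo] at e
  exact mul_right_cancel e

/-- `u` inverts the part of `T` centralising the root. -/
theorem inv_core {g : G} (hg : g ∈ core T x) : u * g * u⁻¹ = g⁻¹ := by
  obtain ⟨k, hk⟩ := exists_pow_two_order T F.hT (mem_core.mp hg).1
  rcases Nat.lt_or_ge k 2 with hk2 | hk2
  · have h2 : g * g = 1 := by
      rw [← pow_two]
      refine orderOf_dvd_iff_pow_eq_one.mp (hk ▸ ?_)
      calc 2 ^ k ∣ 2 ^ 1 := pow_dvd_pow 2 (by omega)
        _ = 2 := pow_one 2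
    rw [(F.core_invol_u h hG hg h2).eq, mul_inv_cancel_right, inv_eq_of_mul_eq_one_right h2]
  obtain ⟨j, rfl⟩ : ∃ j, k = j + 2 := ⟨k - 2, by omega⟩
  have hmem : u * g * u⁻¹ ∈ Subgroup.zpowers g :=
    ti_norm h (k := j + 1) hk (by rw [F.top_eq h hG hg hk]; exact F.htu.symm)
  obtain ⟨b, hb⟩ := Subgroup.mem_zpowers_iff.mp hmem
  have hcg : Commute g (u * g * u⁻¹) := hb ▸ (Commute.refl g).zpow_right b
  set w := g * (u * g * u⁻¹) with hw
  have hwc : w ∈ core T x := mul_mem hg (hb ▸ Subgroup.zpow_mem _ hg b)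
  have huw : Commute u w := by
    refine mul_inv_eq_iff_eq_mul.mp ?_
    calc u * w * u⁻¹ = (u * g * u⁻¹) * (u * u * g * (u * u)⁻¹) := by rw [hw]; group
      _ = w := by rw [invol_mul_self F.hu.1, inv_one, one_mul, mul_one, hw, hcg.eq]
  have hgu : (g * u) * (g * u) = w := by
    rw [hw]
    rw [invol_inv F.hu.1]
    group
  suffices hw1 : w = 1 from eq_inv_of_mul_eq_one_right hw1
  obtain ⟨l, hl⟩ := exists_pow_two_order T F.hT (mem_core.mp hwc).1
  rcases l with _ | _ | i
  · rwa [pow_zero, orderOf_eq_one_iff] at hl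
  · exfalso
    have hwt : w = t := F.sq_core h hG hwc ⟨by simpa using hl, g * u, hgu⟩
    have hc : Commute (g * u) x := roots_comm h hG F.ht (hgu.trans hwt) F.hx
    refine F.u_not_core (mem_core.mpr ⟨F.uT, ?_⟩)
    have := (mem_core.mp hg).2.inv_left.mul_left hc
    rwa [inv_mul_cancel_left] at this
  · exfalso
    refine F.no_root_commute h hG (y := w ^ 2 ^ i) ?_ (huw.pow_right _)
    rw [← pow_add, ← two_mul, ← pow_succ', F.top_eq h hG hwc hl]

theorem core_comm {a b : G} (ha : a ∈ core T x) (hb : b ∈ core T x) : Commute a b := by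
  have e := F.inv_core h hG (mul_mem ha hb)
  rw [show u * (a * b) * u⁻¹ = (u * a * u⁻¹) * (u * b * u⁻¹) by group, F.inv_core h hG ha, F.inv_core h hG hb,
    mul_inv_rev] at e
  exact (Commute.inv_inv_iff.mp e)

omit hG in
theorem mul_u_core {g : G} (hg : g ∈ T) (hgc : g ∉ core T x) : g * u ∈ core T x := by
  refine mem_core.mpr ⟨mul_mem hg F.uT, mul_inv_eq_iff_eq_mul.mp ?_⟩
  have hgx := (root_conj h F.ht F.hx (F.comm g hg)).resolve_left fun e =>
    hgc (mem_core.mpr ⟨hg, mul_inv_eq_iff_eq_mul.mp e⟩)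
  calc g * u * x * (g * u)⁻¹ = g * (u * x * u⁻¹) * g⁻¹ := by group
    _ = (g * x * g⁻¹)⁻¹ := by rw [F.hux]; group
    _ = x := by rw [hgx, inv_inv]

/-- Outside the core every element is an involution inverting the core. -/
theorem outside {g : G} (hg : g ∈ T) (hgc : g ∉ core T x) :
    orderOf g = 2 ∧ ∀ a ∈ core T x, g * a * g⁻¹ = a⁻¹ := by
  have hc := F.mul_u_core h hg hgc
  have hci := F.inv_core h hG hc
  haveI := Fact.mk Nat.prime_two
  have hinv : ∀ a ∈ core T x, g * a * g⁻¹ = a⁻¹ := fun a ha => by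
    calc g * a * g⁻¹ = g * u * (u⁻¹ * a * u) * (g * u)⁻¹ := by group
      _ = g * u * a⁻¹ * (g * u)⁻¹ := by
        have := F.inv_core h hG ha
        rw [invol_inv F.hu.1] at this
        rw [invol_inv F.hu.1, this]
      _ = a⁻¹ := by rw [(F.core_comm h hG hc (inv_mem ha)).eq, mul_inv_cancel_right]
  refine ⟨orderOf_eq_prime ?_ fun e => hgc (e ▸ one_mem _), hinv⟩
  rw [pow_two]
  calc g * g = (g * u) * (u⁻¹ * (g * u) * u) * (u * u)⁻¹ := by group
    _ = 1 := by
      rw [invol_mul_self F.hu.1, inv_one, mul_one, invol_inv F.hu.1]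
      rw [invol_inv F.hu.1] at hci
      rw [hci, mul_inv_cancel]

/-- `T` is a Sylow 2-subgroup of `G`. -/
theorem exists_sylow : ∃ P : Sylow 2 G, (P : Subgroup G) = T := by
  haveI := Fact.mk Nat.prime_two
  obtain ⟨P, hP⟩ := F.hT.exists_le_sylow
  refine ⟨P, le_antisymm ?_ hP⟩
  by_contra hnot
  haveI : Group.IsNilpotent (P : Subgroup G) := P.2.isNilpotent
  have hlt : T.subgroupOf (P : Subgroup G) < ⊤ :=
    lt_top_iff_ne_top.mpr fun e => hnot fun g hg => Subgroup.mem_subgroupOf.mp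
      (e ▸ Subgroup.mem_top (⟨g, hg⟩ : (P : Subgroup G)))
  obtain ⟨n, hn, hn'⟩ := SetLike.exists_of_lt (Group.normalizerCondition_of_isNilpotent _ hlt)
  set Q : Subgroup G := (Subgroup.normalizer (T.subgroupOf (P : Subgroup G) : Set (P : Subgroup G))).map
    (P : Subgroup G).subtype with hQ
  have hTQ : T ≤ Q := fun g hg => ⟨⟨g, hP hg⟩, Subgroup.le_normalizer (Subgroup.mem_subgroupOf.mpr hg), rfl⟩
  have hQc : ∀ g ∈ Q, Commute g t := by
    rintro _ ⟨m, hm, rfl⟩
    show Commute (m : G) t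
    refine mul_inv_eq_iff_eq_mul.mp ?_
    have hmem : ∀ a ∈ T, (m : G) * a * (m : G)⁻¹ ∈ T := fun a ha =>
      Subgroup.mem_subgroupOf.mp ((Subgroup.mem_normalizer_iff.mp hm ⟨a, hP ha⟩).mp (Subgroup.mem_subgroupOf.mpr ha))
    have hmem' : ∀ a ∈ T, (m : G)⁻¹ * a * (m : G) ∈ T := fun a ha => by
      have := Subgroup.mem_subgroupOf.mp ((Subgroup.mem_normalizer_iff.mp (inv_mem hm) ⟨a, hP ha⟩).mp
        (Subgroup.mem_subgroupOf.mpr ha))
      simpa using this
    refine F.sq_core h hG (mem_core.mpr ⟨hmem t F.tT, ?_⟩) (sq_conj F.sqt _)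
    have hc := (F.comm _ (hmem' x F.xT)).eq
    calc (m : G) * t * (m : G)⁻¹ * x = (m : G) * (t * ((m : G)⁻¹ * x * m)) * (m : G)⁻¹ := by group
      _ = x * ((m : G) * t * (m : G)⁻¹) := by rw [← hc]; group
  have hQp : IsPGroup 2 Q := IsPGroup.map (IsPGroup.to_subgroup P.2 _) _
  have hQT := F.maxl Q hQp hTQ hQc
  exact hn' (Subgroup.mem_subgroupOf.mpr (hQT ▸ ⟨n, hn, rfl⟩))

end Frame

end CfsgLib.CyclicTITwo
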