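import Cfsg.Agent.Lib.CyclicTITwo.Shape
import Cfsg.Agent.S0111

/-!
Simple groups whose cyclic subgroups of prime power order are TI sets: the core of a frame has one involution.
-/

set_option autoImplicit false
set_option linter.unusedSectionVars false
set_option linter.style.haveILetI false

namespace CfsgLib.CyclicTITwo

open CfsgLib.WalterUse.Ward (CyclicTI)

universe u

variable {G : Type u} [Group G] [Finite G]

theorem mem_normalizer_of_sup {a b g : G} (ha : g * a * g⁻¹ ∈ Subgroup.zpowers a ⊔ Subgroup.zpowers b)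
    (hb : g * b * g⁻¹ ∈ Subgroup.zpowers a ⊔ Subgroup.zpowers b) :
    g ∈ Subgroup.normalizer ((Subgroup.zpowers a ⊔ Subgroup.zpowers b : Subgroup G) : Set G) := by
  set A := Subgroup.zpowers a ⊔ Subgroup.zpowers b with hA
  have hle : A.map (MulAut.conj g).toMonoidHom ≤ A := by
    rw [hA, Subgroup.map_sup, MonoidHom.map_zpowers, MonoidHom.map_zpowers, sup_le_iff, Subgroup.zpowers_le,
      Subgroup.zpowers_le, ← hA]
    exact ⟨ha, hb⟩
  have hcard : Nat.card A ≤ Nat.card (A.map (MulAut.conj g).toMonoidHom) :=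
    (Subgroup.card_map_of_injective (MulAut.conj g).injective).symm.le
  have heq := Subgroup.eq_of_le_of_card_ge hle hcard
  rw [Subgroup.mem_normalizer_iff]
  intro y
  constructor
  · intro hy
    rw [← heq]
    exact ⟨y, hy, rfl⟩
  · intro hy
    rw [← heq] at hy
    obtain ⟨z, hz, hzy⟩ := hy
    exact (MulAut.conj g).injective hzy ▸ hz

theorem pgroup_zpowers {g : G} {n : ℕ} (hg : g ^ 2 ^ n = 1) : IsPGroup 2 (Subgroup.zpowers g) := by
  haveI := Fact.mk Nat.prime_two
  obtain ⟨m, -, hm⟩ := (Nat.dvd_prime_pow Nat.prime_two).mp (orderOf_dvd_of_pow_eq_one hg)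
  exact IsPGroup.of_card (n := m) (by rw [Nat.card_zpowers, hm])

theorem pgroup_pair {a b : G} {n m : ℕ} (hab : Commute a b) (ha : a ^ 2 ^ n = 1) (hb : b ^ 2 ^ m = 1) :
    IsPGroup 2 (Subgroup.zpowers a ⊔ Subgroup.zpowers b : Subgroup G) := by
  refine IsPGroup.to_sup_of_normal_right' (pgroup_zpowers ha) (pgroup_zpowers hb) (le_trans ?_
    (Subgroup.centralizer_le_normalizer _))
  rw [Subgroup.zpowers_le, Subgroup.mem_centralizer_iff]
  rintro _ ⟨i, rfl⟩
  exact (hab.zpow_right i).eq.symm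

/-- Roots of the square involutions of `T` outside the core. -/
def outRoots (T : Subgroup G) (x : G) : Set G := {y | Sq (y * y) ∧ y * y ∈ T ∧ y * y ∉ core T x}

namespace Frame

variable {t u x : G} {T : Subgroup G} (F : Frame t u x T)
variable [IsSimpleGroup G] (h : CyclicTI G) (hG : ¬ IsMulCommutative G)
include F h hG

theorem comm_T {e : G} (he : e ∈ core T x) (he2 : e * e = 1) {g : G} (hg : g ∈ T) : Commute g e := by
  by_cases hgc : g ∈ core T x
  · exact F.core_comm h hG hgc he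
  · refine mul_inv_eq_iff_eq_mul.mp ?_
    rw [(F.outside h hG hg hgc).2 e he, inv_eq_of_mul_eq_one_right he2]

theorem t_inv_root {y : G} (hy : y ∈ outRoots T x) : t * y * t⁻¹ = y⁻¹ := by
  obtain ⟨hq, hqT, hqc⟩ := hy
  have hc : Commute t (y * y) := (F.comm _ hqT).symm
  refine (root_conj h hq.1 rfl hc).resolve_left fun e => hqc (mem_core.mpr ⟨hqT, ?_⟩)
  exact cent_symm h F.ht rfl F.hx hc.symm (mul_inv_eq_iff_eq_mul.mp e)

theorem invol_dichotomy {e : G} (he : e ∈ core T x) (he2 : e * e = 1) {y : G} (hy : y ∈ outRoots T x) :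
    Commute e y ∨ e * y * e⁻¹ = y⁻¹ :=
  (root_conj h hy.1.1 rfl (F.comm_T h hG he he2 hy.2.1).symm).imp_left fun e' => mul_inv_eq_iff_eq_mul.mp e'

/-- Centralising one root of an involution outside the core is centralising all. -/
theorem root_uniform {e : G} (he : e ∈ core T x) (he2 : e * e = 1) {y y' : G} (hy : y ∈ outRoots T x)
    (hyy : y' * y' = y * y) (hey : Commute e y) : Commute e y' := by
  haveI := Fact.mk Nat.prime_two
  set q := y * y with hqdef
  have hy' : y' ∈ outRoots T x := by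
    show Sq (y' * y') ∧ y' * y' ∈ T ∧ y' * y' ∉ core T x
    rw [hyy]; exact hy
  have hq := hy.1
  have htq : Commute t q := (F.comm _ hy.2.1).symm
  have heq : Commute e q := (F.comm_T h hG he he2 hy.2.1).symm
  have hty := F.t_inv_root h hG hy
  have hcyy : Commute y y' := roots_comm h hG hq.1 rfl hyy
  have h4 : ∀ {z : G}, z * z = q → z ^ 2 ^ 2 = 1 := fun {z} hz => by
    rw [show 2 ^ 2 = orderOf z from (orderOf_root hq.1 hz).symm]; exact pow_orderOf_eq_one z
  have hA := pgroup_pair hcyy (h4 rfl) (h4 hyy)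
  have h21 : ∀ {z : G}, z * z = 1 → z ^ 2 ^ 1 = 1 := fun {z} hz => by rw [pow_one, pow_two, hz]
  have hB := pgroup_pair (F.comm e (mem_core.mp he).1).symm (h21 (invol_mul_self F.ht)) (h21 he2)
  have hn : Subgroup.zpowers t ⊔ Subgroup.zpowers e ≤
      Subgroup.normalizer ((Subgroup.zpowers y ⊔ Subgroup.zpowers y' : Subgroup G) : Set G) := by
    refine sup_le ?_ ?_ <;> rw [Subgroup.zpowers_le]
    · refine mem_normalizer_of_sup ?_ ?_
      · rw [hty]; exact inv_mem (le_sup_left (b := Subgroup.zpowers y') (Subgroup.mem_zpowers y))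
      · rw [F.t_inv_root h hG hy']; exact inv_mem (le_sup_right (a := Subgroup.zpowers y) (Subgroup.mem_zpowers y'))
    · refine mem_normalizer_of_sup ?_ ?_
      · rw [hey.eq, mul_inv_cancel_right]; exact le_sup_left (b := Subgroup.zpowers y') (Subgroup.mem_zpowers y)
      · rcases root_conj h hq.1 hyy heq with e' | e' <;> rw [e']
        · exact le_sup_right (a := Subgroup.zpowers y) (Subgroup.mem_zpowers y')
        · exact inv_mem (le_sup_right (a := Subgroup.zpowers y) (Subgroup.mem_zpowers y'))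
  set T₀ := (Subgroup.zpowers t ⊔ Subgroup.zpowers e) ⊔ (Subgroup.zpowers y ⊔ Subgroup.zpowers y') with hT₀
  have hmem : t ∈ T₀ ∧ e ∈ T₀ ∧ y ∈ T₀ ∧ y' ∈ T₀ := by
    simp only [hT₀]
    exact ⟨Subgroup.mem_sup_left (Subgroup.mem_sup_left (Subgroup.mem_zpowers t)),
      Subgroup.mem_sup_left (Subgroup.mem_sup_right (Subgroup.mem_zpowers e)),
      Subgroup.mem_sup_right (Subgroup.mem_sup_left (Subgroup.mem_zpowers y)),
      Subgroup.mem_sup_right (Subgroup.mem_sup_right (Subgroup.mem_zpowers y'))⟩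
  have hcq : T₀ ≤ Subgroup.centralizer ({q} : Set G) := by
    simp only [hT₀, sup_le_iff, Subgroup.zpowers_le, Subgroup.mem_centralizer_singleton_iff]
    exact ⟨⟨htq.eq, heq.eq⟩, (mul_assoc y y y).symm, by rw [← hyy]; exact (mul_assoc y' y' y').symm⟩
  obtain ⟨T', hT', F'⟩ := exists_frame (t := q) (u := t) (x := y) hq.1 F.sqt rfl hty htq.symm
    (IsPGroup.to_sup_of_normal_right' hB hA hn) hmem.1 hmem.2.2.1
    fun g hg => Subgroup.mem_centralizer_singleton_iff.mp (hcq hg)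
  exact F'.core_comm h hG (mem_core.mpr ⟨hT' hmem.2.1, hey⟩) (mem_core.mpr ⟨hT' hmem.2.2.2, hcyy.symm⟩)

theorem u_out {y : G} (hy : y * y = u) : y ∈ outRoots T x := by
  show Sq (y * y) ∧ y * y ∈ T ∧ y * y ∉ core T x
  rw [hy]; exact ⟨F.hu, F.uT, F.u_not_core⟩

/-- `T` is not abelian. -/
theorem not_abelian : ¬ IsMulCommutative T := fun hab => F.u_not_core (mem_core.mpr ⟨F.uT,
  congrArg Subtype.val (hab.1.comm (⟨u, F.uT⟩ : T) ⟨x, F.xT⟩)⟩)

/-- The involutions of the core centralising the roots outside form a strongly closed subgroup. -/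
theorem root_cent_closed {a g : G} (ha : a ∈ core T x) (ha2 : a * a = 1) (haR : ∀ y ∈ outRoots T x, Commute a y)
    (hw : g * a * g⁻¹ ∈ T) :
    g * a * g⁻¹ ∈ core T x ∧ ∀ y ∈ outRoots T x, Commute (g * a * g⁻¹) y := by
  classical
  haveI := Fact.mk Nat.prime_two
  obtain ⟨P, hP⟩ := F.exists_sylow h hG
  set w := g * a * g⁻¹ with hwdef
  have hwc : w ∈ core T x := by
    by_contra hnc
    -- move the centraliser of `w` in `T` into `T`
    set C := Subgroup.centralizer ({a} : Set G) with hC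
    have hPC : (P : Subgroup G) ≤ C := fun b hb =>
      Subgroup.mem_centralizer_singleton_iff.mpr (F.comm_T h hG ha ha2 (hP ▸ hb : b ∈ T)).eq
    set K := (T ⊓ Subgroup.centralizer ({w} : Set G)).map (MulAut.conj g⁻¹).toMonoidHom with hK
    have hKC : K ≤ C := by
      rintro _ ⟨b, ⟨-, hb⟩, rfl⟩
      have hb' := Subgroup.mem_centralizer_singleton_iff.mp hb
      refine Subgroup.mem_centralizer_singleton_iff.mpr ?_
      show g⁻¹ * b * g⁻¹⁻¹ * a = a * (g⁻¹ * b * g⁻¹⁻¹)
      calc g⁻¹ * b * g⁻¹⁻¹ * a = g⁻¹ * (b * w) * g := by rw [hwdef]; group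
        _ = a * (g⁻¹ * b * g⁻¹⁻¹) := by rw [hb', hwdef]; group
    have hKp : IsPGroup 2 (K.subgroupOf C) :=
      ((F.hT.to_le inf_le_left).map _).of_equiv (Subgroup.subgroupOfEquivOfLe hKC).symm
    obtain ⟨P', hP'⟩ := hKp.exists_le_sylow
    obtain ⟨c, hc⟩ := MulAction.exists_smul_eq (↥C) P' (P.subtype hPC)
    set k : G := (c : G) * g⁻¹ with hk
    have hkey : ∀ b ∈ T, Commute b w → k * b * k⁻¹ ∈ T := fun b hb hbw => by
      have hbK : g⁻¹ * b * g⁻¹⁻¹ ∈ K := ⟨b, ⟨hb, Subgroup.mem_centralizer_singleton_iff.mpr hbw⟩, rfl⟩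
      have h1 : (⟨g⁻¹ * b * g⁻¹⁻¹, hKC hbK⟩ : C) ∈ P' := hP' (Subgroup.mem_subgroupOf.mpr hbK)
      have h2 : c * ⟨g⁻¹ * b * g⁻¹⁻¹, hKC hbK⟩ * c⁻¹ ∈ P.subtype hPC := by
        rw [← hc]
        exact ⟨_, h1, rfl⟩
      have h3 : ((c : G) * (g⁻¹ * b * g⁻¹⁻¹) * (c : G)⁻¹) ∈ (P : Subgroup G) := by
        exact Subgroup.mem_subgroupOf.mp (show _ ∈ (P : Subgroup G).subgroupOf C from h2)
      rw [hP] at h3
      have e : k * b * k⁻¹ = (c : G) * (g⁻¹ * b * g⁻¹⁻¹) * (c : G)⁻¹ := by rw [hk]; group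
      rw [e]; exact h3
    have hca : (c : G) * a * (c : G)⁻¹ = a :=
      mul_inv_eq_iff_eq_mul.mpr (Subgroup.mem_centralizer_singleton_iff.mp c.2)
    have hkw : k * w * k⁻¹ = a := by
      calc k * w * k⁻¹ = (c : G) * a * (c : G)⁻¹ := by rw [hk, hwdef]; group
        _ = a := hca
    have hkx : ¬ Commute a (k * x * k⁻¹) := fun hc' => hnc (mem_core.mpr ⟨hw, by
      refine (Commute.map hc' (MulAut.conj k⁻¹).toMonoidHom : Commute _ _) |> fun hm => ?_
      have e1 : (MulAut.conj k⁻¹).toMonoidHom a = w := by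
        show k⁻¹ * a * k⁻¹⁻¹ = w
        rw [← hkw]; group
      have e2 : (MulAut.conj k⁻¹).toMonoidHom (k * x * k⁻¹) = x := by
        show k⁻¹ * (k * x * k⁻¹) * k⁻¹⁻¹ = x
        group
      rwa [e1, e2] at hm⟩)
    have ht' := hkey t F.tT (F.comm w hw).symm
    have hyy : (k * x * k⁻¹) * (k * x * k⁻¹) = k * t * k⁻¹ := by rw [← F.hx]; group
    by_cases htc : k * t * k⁻¹ ∈ core T x
    · refine hkx ?_
      have hroot : (k * x * k⁻¹) * (k * x * k⁻¹) = t := hyy.trans (F.sq_core h hG htc (sq_conj F.sqt k))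
      rcases root_conj h F.ht F.hx
          (mul_inv_eq_iff_eq_mul.mp (F.sq_core h hG htc (sq_conj F.sqt k)) : Commute k t) with e | e <;> rw [e]
      · exact (mem_core.mp ha).2
      · exact (mem_core.mp ha).2.inv_right
    · exact hkx (haR _ (by
        show Sq _ ∧ _ ∈ T ∧ _ ∉ core T x
        rw [hyy]; exact ⟨sq_conj F.sqt k, ht', htc⟩))
  refine ⟨hwc, fun y hy => ?_⟩
  have hw2 : w * w = 1 := by
    rw [hwdef, show g * a * g⁻¹ * (g * a * g⁻¹) = g * (a * a) * g⁻¹ by group, ha2, mul_one, mul_inv_cancel]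
  have hac : ∀ {e : G}, e ∈ core T x → e * e = 1 → e ∈ Subgroup.centralizer ((P : Subgroup G) : Set G) :=
    fun he he2 => Subgroup.mem_centralizer_iff.mpr fun b hb => (F.comm_T h hG he he2 (hP ▸ hb : b ∈ T)).eq
  obtain ⟨n, hn, hne⟩ := Sylow.conj_eq_normalizer_conj_of_mem_centralizer P a g⁻¹ (hac ha ha2)
    (by rw [inv_inv, ← hwdef]; exact hac hwc hw2)
  rw [inv_inv, ← hwdef] at hne
  have hnT : ∀ b ∈ T, n * b * n⁻¹ ∈ T := fun b hb => hP ▸ (Subgroup.mem_normalizer_iff.mp hn b).mp (hP ▸ hb)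
  have hnT' : ∀ b ∈ T, n⁻¹ * b * n ∈ T := fun b hb => by
    have := (Subgroup.mem_normalizer_iff.mp (inv_mem hn) b).mp (hP ▸ hb)
    rw [inv_inv] at this
    exact hP ▸ (this : n⁻¹ * b * n ∈ (P : Subgroup G))
  have hnt : n * t * n⁻¹ = t := by
    refine F.sq_core h hG (mem_core.mpr ⟨hnT t F.tT, ?_⟩) (sq_conj F.sqt n)
    have hc := (F.comm _ (hnT' x F.xT)).eq
    calc n * t * n⁻¹ * x = n * (t * (n⁻¹ * x * n)) * n⁻¹ := by group
      _ = x * (n * t * n⁻¹) := by rw [← hc]; group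
  have hrootc : ∀ z ∈ T, z * z = t → z ∈ core T x := fun z hz hzz =>
    mem_core.mpr ⟨hz, roots_comm h hG F.ht hzz F.hx⟩
  have hcore : ∀ b ∈ core T x, n * b * n⁻¹ ∈ core T x := fun b hb => by
    refine mem_core.mpr ⟨hnT b (mem_core.mp hb).1, ?_⟩
    have hx' : n⁻¹ * x * n ∈ core T x := hrootc _ (hnT' x F.xT) (by
      calc n⁻¹ * x * n * (n⁻¹ * x * n) = n⁻¹ * (x * x) * n := by group
        _ = t := by
          rw [F.hx]
          nth_rw 1 [← hnt]
          group)
    have hc := (F.core_comm h hG hb hx').eq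
    calc n * b * n⁻¹ * x = n * (b * (n⁻¹ * x * n)) * n⁻¹ := by group
      _ = x * (n * b * n⁻¹) := by rw [hc]; group
  have hyc : Commute a (n * y * n⁻¹) := by
    refine haR _ ?_
    have e : n * y * n⁻¹ * (n * y * n⁻¹) = n * (y * y) * n⁻¹ := by group
    show Sq _ ∧ _ ∈ T ∧ _ ∉ core T x
    rw [e]
    refine ⟨sq_conj hy.1 n, hnT _ hy.2.1, fun hm => ?_⟩
    have h1 := F.sq_core h hG hm (sq_conj hy.1 n)
    have h2 : y * y = t := mul_left_cancel (mul_right_cancel (h1.trans hnt.symm))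
    exact hy.2.2 (h2 ▸ F.t_core)
  rw [hne]
  show n⁻¹ * a * n * y = y * (n⁻¹ * a * n)
  calc n⁻¹ * a * n * y = n⁻¹ * (a * (n * y * n⁻¹)) * n := by group
    _ = y * (n⁻¹ * a * n) := by rw [hyc.eq]; group

/-- Two square involutions outside differing by an involution of the core. -/
theorem sq_quot {q e : G} (hq : Sq q) (hqe : Sq (q * e)) (hqT : q ∈ T) (he : e ∈ core T x) (he2 : e * e = 1) :
    e = 1 ∨ e = t := by
  by_cases he1 : e = 1
  · exact Or.inl he1
  refine Or.inr (F.sq_core h hG he ?_)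
  have hqe' : Commute q e := F.comm_T h hG he he2 hqT
  have := sq_mul h hq hqe (fun e' => he1 (left_eq_mul.mp e')) ((Commute.refl q).mul_right hqe')
  rwa [← mul_assoc, invol_mul_self hq.1, one_mul] at this

/-- The core has only one involution. -/
theorem core_invol {e₀ : G} (he₀ : e₀ ∈ core T x) (he₀2 : e₀ * e₀ = 1) : e₀ = 1 ∨ e₀ = t := by
  classical
  haveI := Fact.mk Nat.prime_two
  by_contra hcon
  push Not at hcon
  obtain ⟨he1, het⟩ := hcon
  obtain ⟨P, hP⟩ := F.exists_sylow h hG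
  -- no involution of the core centralises all outer roots
  have hA : ∀ e ∈ core T x, e * e = 1 → (∀ y ∈ outRoots T x, Commute e y) → e = 1 := by
    let A : Subgroup G :=
      { carrier := {e | e ∈ core T x ∧ e * e = 1 ∧ ∀ y ∈ outRoots T x, Commute e y}
        one_mem' := ⟨one_mem _, one_mul 1, fun y _ => Commute.one_left y⟩
        mul_mem' := fun {a b} ha hb => ⟨mul_mem ha.1 hb.1,
          by rw [(F.core_comm h hG hb.1 ha.1).mul_mul_mul_comm, ha.2.1, hb.2.1, one_mul],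
          fun y hy => (ha.2.2 y hy).mul_left (hb.2.2 y hy)⟩
        inv_mem' := fun {a} ha => by
          rw [inv_eq_of_mul_eq_one_right ha.2.1]; exact ha }
    intro e he he2 heR
    by_contra hne
    have hAne : A ≠ ⊥ := fun h0 => hne (by
      rw [← Subgroup.mem_bot, ← h0]; exact ⟨he, he2, heR⟩)
    have hAab : IsMulCommutative A := ⟨⟨fun a b => Subtype.ext (F.core_comm h hG a.2.1 b.2.1).eq⟩⟩
    have hsc : Cfsg.IsStronglyClosed A (P : Subgroup G) := ⟨fun a ha => hP ▸ (mem_core.mp ha.1).1,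
      fun a ha g hg => by
        obtain ⟨h1, h2⟩ := F.root_cent_closed h hG ha.1 ha.2.1 ha.2.2 (hP ▸ hg)
        exact ⟨h1, by rw [show g * a * g⁻¹ * (g * a * g⁻¹) = g * (a * a) * g⁻¹ by group, ha.2.1, mul_one,
          mul_inv_cancel], h2⟩⟩
    rcases Cfsg.Agent.S1169.result P A hAne hAab hsc with hab | ⟨H, hH⟩
    · exact F.not_abelian h hG (hP ▸ hab)
    · have he0o : orderOf e₀ = 2 := orderOf_eq_prime (by rw [pow_two, he₀2]) he1
      obtain ⟨c, hc⟩ := isConj_iff.mp (all_conj H hH t e₀ F.ht he0o)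
      exact het (F.sq_core h hG he₀ (hc ▸ sq_conj F.sqt c))
  -- the two types of outer involutions
  obtain ⟨y₀, hy₀⟩ := F.hu.2
  have hy₀R := F.u_out h hG hy₀
  obtain ⟨e₁, he₁, he₁2, he₁y, he₁1⟩ : ∃ e, e ∈ core T x ∧ e * e = 1 ∧ Commute e y₀ ∧ e ≠ 1 := by
    rcases F.invol_dichotomy h hG he₀ he₀2 hy₀R with h1 | h1
    · exact ⟨e₀, he₀, he₀2, h1, he1⟩
    · refine ⟨e₀ * t, mul_mem he₀ F.t_core, by
        rw [(F.core_comm h hG F.t_core he₀).mul_mul_mul_comm, he₀2, invol_mul_self F.ht, one_mul],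
        mul_inv_eq_iff_eq_mul.mp ?_, fun e => het ((mul_eq_one_iff_eq_inv.mp e).trans (invol_inv F.ht))⟩
      calc e₀ * t * y₀ * (e₀ * t)⁻¹ = e₀ * (t * y₀ * t⁻¹) * e₀⁻¹ := by group
        _ = (e₀ * y₀ * e₀⁻¹)⁻¹ := by rw [F.t_inv_root h hG hy₀R]; group
        _ = y₀ := by rw [h1, inv_inv]
  obtain ⟨g, hg, k, hk, hgen⟩ := F.exists_gen h hG
  have htop := F.top_eq h hG hg hk
  -- an outer involution is conjugate to `u * e` or to `u * g * e`
  have hclass : ∀ q ∈ T, q ∉ core T x → ∃ b ∈ core T x, ∃ e, e ∈ core T x ∧ e * e = 1 ∧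
      (b * q * b⁻¹ = u * e ∨ b * q * b⁻¹ = u * g * e) := by
    intro q hq hqc
    have hc : u * q ∈ core T x := by
      have := F.mul_u_core h hq hqc
      have h2 := F.inv_core h hG this
      rw [invol_inv F.hu.1, show u * (q * u) * u = u * q * (u * u) by group, invol_mul_self F.hu.1, mul_one] at h2
      exact h2 ▸ inv_mem this
    obtain ⟨i, e, he, he2, hie⟩ := hgen _ hc
    have hqe : q = u * (g ^ i * e) := by rw [← hie, ← mul_assoc, invol_mul_self F.hu.1, one_mul]
    have hconj : ∀ j : ℤ, g ^ j * q * (g ^ j)⁻¹ = u * (g ^ (i - 2 * j) * e) := fun j => by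
      have h1 : g ^ j * u = u * (g ^ j)⁻¹ := by
        rw [← F.inv_core h hG (Subgroup.zpow_mem _ hg j)]
        rw [← mul_assoc, ← mul_assoc, invol_mul_self F.hu.1, one_mul, invol_inv F.hu.1]
      calc g ^ j * q * (g ^ j)⁻¹ = (g ^ j * u) * g ^ i * (e * (g ^ j)⁻¹) := by rw [hqe]; group
        _ = u * ((g ^ j)⁻¹ * g ^ i * (g ^ j)⁻¹) * e := by
          rw [h1, (F.core_comm h hG he (inv_mem (Subgroup.zpow_mem _ hg j))).eq]; group
        _ = u * (g ^ (i - 2 * j) * e) := by
          rw [← zpow_neg, ← zpow_add, ← zpow_add, show -j + i + -j = i - 2 * j by ring, mul_assoc]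
    rcases Int.even_or_odd i with ⟨j, rfl⟩ | ⟨j, rfl⟩
    · refine ⟨g ^ j, Subgroup.zpow_mem _ hg j, e, he, he2, Or.inl ?_⟩
      rw [hconj j, show j + j - 2 * j = 0 by ring, zpow_zero, one_mul]
    · refine ⟨g ^ j, Subgroup.zpow_mem _ hg j, e, he, he2, Or.inr ?_⟩
      rw [hconj j, show 2 * j + 1 - 2 * j = 1 by ring, zpow_one, mul_assoc]
  -- conjugation inside `T` keeps the type
  have htrans : ∀ {y y' b e : G}, y ∈ outRoots T x → b ∈ core T x → e ∈ core T x → e * e = 1 →
      b * (y * y) * b⁻¹ = y' * y' → Commute e y' → Commute e y := by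
    intro y y' b e hy hb he he2 hyy hey
    have e1 : b * y * b⁻¹ * (b * y * b⁻¹) = y' * y' := by rw [← hyy]; group
    have hy' : y' ∈ outRoots T x := by
      show Sq (y' * y') ∧ y' * y' ∈ T ∧ y' * y' ∉ core T x
      rw [← hyy]
      refine ⟨sq_conj hy.1 b, mul_mem (mul_mem (mem_core.mp hb).1 hy.2.1) (inv_mem (mem_core.mp hb).1),
        fun hm => hy.2.2 ?_⟩
      have := mul_mem (mul_mem (inv_mem hb) hm) hb
      rwa [show b⁻¹ * (b * (y * y) * b⁻¹) * b = y * y by group] at this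
    have h1 := F.root_uniform h hG he he2 hy' e1 hey
    have h2 := h1.map (MulAut.conj b⁻¹).toMonoidHom
    have e2 : (MulAut.conj b⁻¹).toMonoidHom e = e := by
      show b⁻¹ * e * b⁻¹⁻¹ = e
      rw [(F.core_comm h hG (inv_mem hb) he).eq, mul_inv_cancel_right]
    have e3 : (MulAut.conj b⁻¹).toMonoidHom (b * y * b⁻¹) = y := by
      show b⁻¹ * (b * y * b⁻¹) * b⁻¹⁻¹ = y
      group
    rwa [e2, e3] at h2
  -- multiplying the representative by `t` keeps the type
  have hxconj : ∀ w : G, w ∈ T → w ∉ core T x → x * w * x⁻¹ = w * t := fun w hw hwc => by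
    have h2 := (F.outside h hG hw hwc).2 x F.x_core
    calc x * w * x⁻¹ = x * (w * x⁻¹ * w⁻¹) * w := by group
      _ = x * (w * x * w⁻¹)⁻¹ * w := by group
      _ = t * w := by rw [h2, inv_inv, F.hx]
      _ = w * t := ((F.comm w hw).symm).eq
  -- the type of `u`
  have htypeu : ∀ {q y b e e' : G}, y * y = q → y ∈ outRoots T x → b ∈ core T x → e' ∈ core T x → e' * e' = 1 →
      b * q * b⁻¹ = u * e' → e ∈ core T x → e * e = 1 → Commute e y₀ → Commute e y := by
    intro q y b e e' hy hyR hb he' he'2 hbq he he2 hey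
    rw [← hy] at hbq
    have hS : Sq (u * e') := hbq ▸ sq_conj hyR.1 b
    rcases F.sq_quot h hG F.hu hS F.uT he' he'2 with rfl | rfl
    · exact htrans hyR hb he he2 (hbq.trans (by rw [mul_one, hy₀])) hey
    · refine htrans hyR (mul_mem (inv_mem F.x_core) hb) he he2 ?_ hey
      rw [show x⁻¹ * b * (y * y) * (x⁻¹ * b)⁻¹ = x⁻¹ * (b * (y * y) * b⁻¹) * x by group, hbq,
        ← hxconj u F.uT F.u_not_core, hy₀]
      group
  obtain ⟨y₂, hy₂, he₁y₂⟩ : ∃ y ∈ outRoots T x, ¬ Commute e₁ y := by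
    by_contra hc
    push Not at hc
    exact he₁1 (hA e₁ he₁ he₁2 hc)
  obtain ⟨b₂, hb₂, e₂, he₂, he₂2, hb₂q⟩ := hclass _ hy₂.2.1 hy₂.2.2
  rcases hb₂q with hb₂q | hb₂q
  · exact he₁y₂ (htypeu rfl hy₂ hb₂ he₂ he₂2 hb₂q he₁ he₁2 he₁y)
  -- `u` and `r` represent all outer square involutions
  set r := u * g * e₂ with hr
  have hrS : Sq r := hb₂q ▸ sq_conj hy₂.1 b₂
  have hrc : r ∉ core T x := fun hm => by
    refine F.u_not_core ?_
    have := mul_mem (mul_mem hm (inv_mem he₂)) (inv_mem hg)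
    rwa [hr, mul_inv_cancel_right, mul_inv_cancel_right] at this
  have hrT : r ∈ T := mul_mem (mul_mem F.uT (mem_core.mp hg).1) (mem_core.mp he₂).1
  have htype : ∀ {e : G}, e ∈ core T x → e * e = 1 → Commute e y₀ → Commute e y₂ → e = 1 := by
    intro e he he2 h0 h2
    refine hA e he he2 fun y hy => ?_
    obtain ⟨b, hb, e', he', he'2, hbq⟩ := hclass _ hy.2.1 hy.2.2
    rcases hbq with hbq | hbq
    · exact htypeu rfl hy hb he' he'2 hbq he he2 h0
    have hS : Sq (u * g * e') := hbq ▸ sq_conj hy.1 b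
    have hq : r * (e₂ * e') = u * g * e' := by
      rw [hr, mul_assoc (u * g), ← mul_assoc e₂, he₂2, one_mul]
    rcases F.sq_quot h hG hrS (hq ▸ hS) hrT (mul_mem he₂ he')
        (by rw [(F.core_comm h hG he' he₂).mul_mul_mul_comm, he₂2, he'2, one_mul]) with h1 | h1
    · refine htrans hy (mul_mem (inv_mem hb₂) hb) he he2 ?_ h2
      rw [show b₂⁻¹ * b * (y * y) * (b₂⁻¹ * b)⁻¹ = b₂⁻¹ * (b * (y * y) * b⁻¹) * b₂ by group, hbq, ← hq, h1, mul_one,
        ← hb₂q]
      group
    · refine htrans hy (mul_mem (mul_mem (inv_mem hb₂) (inv_mem F.x_core)) hb) he he2 ?_ h2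
      rw [show b₂⁻¹ * x⁻¹ * b * (y * y) * (b₂⁻¹ * x⁻¹ * b)⁻¹ = b₂⁻¹ * (x⁻¹ * (b * (y * y) * b⁻¹) * x) * b₂ by group,
        hbq, ← hq, h1, ← hxconj r hrT hrc, show x⁻¹ * (x * r * x⁻¹) * x = r by group, ← hb₂q]
      group
  have he₁t : e₁ ≠ t := fun e => root_ne_inv F.hu.1 hy₀ (by
    rw [← F.t_inv_root h hG hy₀R, ← e, he₁y.eq, mul_inv_cancel_right])
  -- the involutions of the core
  have hfour : ∀ e ∈ core T x, e * e = 1 → e = 1 ∨ e = t ∨ e = e₁ ∨ e = e₁ * t := by
    have h0 : ∀ e ∈ core T x, e * e = 1 → Commute e y₀ → e = 1 ∨ e = e₁ := fun e he he2 hey => by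
      rcases F.invol_dichotomy h hG he he2 hy₂ with h1 | h1
      · exact Or.inl (htype he he2 hey h1)
      right
      have h1' : e₁ * y₂ * e₁⁻¹ = y₂⁻¹ := (F.invol_dichotomy h hG he₁ he₁2 hy₂).resolve_left he₁y₂
      have hprod := htype (e := e * e₁) (mul_mem he he₁)
        (by rw [(F.core_comm h hG he₁ he).mul_mul_mul_comm, he2, he₁2, one_mul]) (hey.mul_left he₁y)
        (mul_inv_eq_iff_eq_mul.mp (by
          rw [show e * e₁ * y₂ * (e * e₁)⁻¹ = e * (e₁ * y₂ * e₁⁻¹) * e⁻¹ by group, h1',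
            show e * y₂⁻¹ * e⁻¹ = (e * y₂ * e⁻¹)⁻¹ by group, h1, inv_inv]))
      rw [eq_inv_of_mul_eq_one_left hprod, inv_eq_of_mul_eq_one_right he₁2]
    intro e he he2
    rcases F.invol_dichotomy h hG he he2 hy₀R with h1 | h1
    · rcases h0 e he he2 h1 with rfl | rfl
      · exact Or.inl rfl
      · exact Or.inr (Or.inr (Or.inl rfl))
    · have h2 := h0 (e * t) (mul_mem he F.t_core)
        (by rw [(F.core_comm h hG F.t_core he).mul_mul_mul_comm, he2, invol_mul_self F.ht, one_mul])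
        (mul_inv_eq_iff_eq_mul.mp (by
          rw [show e * t * y₀ * (e * t)⁻¹ = e * (t * y₀ * t⁻¹) * e⁻¹ by group, F.t_inv_root h hG hy₀R,
            show e * y₀⁻¹ * e⁻¹ = (e * y₀ * e⁻¹)⁻¹ by group, h1, inv_inv]))
      rcases h2 with h3 | h3
      · exact Or.inr (Or.inl ((eq_inv_of_mul_eq_one_left h3).trans (invol_inv F.ht)))
      · exact Or.inr (Or.inr (Or.inr (by rw [← h3, mul_assoc, invol_mul_self F.ht, mul_one])))
  -- the subgroup of index two
  set c := g * e₂ with hc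
  have hcc : c ∈ core T x := mul_mem hg he₂
  have hge : Commute g e₂ := F.core_comm h hG hg he₂
  have hcpow : c ^ (2 ^ (k + 1)) = t := by
    rw [hc, hge.mul_pow, htop, show 2 ^ (k + 1) = 2 * 2 ^ k from pow_succ' 2 k, pow_mul, pow_two, he₂2, one_pow,
      mul_one]
  have hco : orderOf c = 2 ^ (k + 2) := by
    refine orderOf_eq_prime_pow (n := k + 1) (by rw [hcpow]; exact invol_ne F.ht) ?_
    rw [pow_succ, pow_mul, hcpow, pow_two, invol_mul_self F.ht]
  have hinv : ∀ {a : G}, a ∈ core T x → u * a = a⁻¹ * u := fun ha => by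
    rw [← F.inv_core h hG ha, inv_mul_cancel_right]
  let M : Subgroup G :=
    { carrier := {m | m ∈ Subgroup.zpowers c ∨ u * m ∈ Subgroup.zpowers c}
      one_mem' := Or.inl (one_mem _)
      mul_mem' := fun {a b} ha hb => by
        have hsub : Subgroup.zpowers c ≤ core T x := Subgroup.zpowers_le.mpr hcc
        rcases ha with ha | ha <;> rcases hb with hb | hb
        · exact Or.inl (mul_mem ha hb)
        · refine Or.inr ?_
          rw [← mul_assoc, hinv (hsub ha), mul_assoc]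
          exact mul_mem (inv_mem ha) hb
        · refine Or.inr ?_
          rw [← mul_assoc]
          exact mul_mem ha hb
        · refine Or.inl ?_
          have e : a * b = u * (u * a) * (u⁻¹ * (u * b)) := by
            rw [← mul_assoc u u, invol_mul_self F.hu.1]; group
          have e' : u * (u * a) * (u⁻¹ * (u * b)) = (u * (u * a) * u⁻¹) * (u * b) := by group
          rw [e, e', F.inv_core h hG (hsub ha)]
          exact mul_mem (inv_mem ha) hb
      inv_mem' := fun {a} ha => by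
        have hsub : Subgroup.zpowers c ≤ core T x := Subgroup.zpowers_le.mpr hcc
        rcases ha with ha | ha
        · exact Or.inl (inv_mem ha)
        · refine Or.inr ?_
          have e1 : u * a⁻¹ = u * (u * a)⁻¹ * u := by group
          rw [e1, hinv (inv_mem (hsub ha)), inv_inv, mul_assoc, invol_mul_self F.hu.1, mul_one]
          exact ha }
  have hcsub : ∀ {a : G}, a ∈ Subgroup.zpowers c → a ∈ core T x := fun ha => Subgroup.zpowers_le.mpr hcc ha
  have hMT : M ≤ T := by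
    intro m hm
    rcases hm with hm | hm
    · exact (mem_core.mp (hcsub hm)).1
    · have := mul_mem F.uT (mem_core.mp (hcsub hm)).1
      rwa [← mul_assoc, invol_mul_self F.hu.1, one_mul] at this
  have huM : ∀ {a : G}, a ∈ Subgroup.zpowers c → u * a ∈ M := fun ha => Or.inr (by
    rw [← mul_assoc, invol_mul_self F.hu.1, one_mul]; exact ha)
  have htc : t ∈ Subgroup.zpowers c := hcpow ▸ Subgroup.pow_mem _ (Subgroup.mem_zpowers c) _
  have hMsq : ∀ m ∈ M, orderOf m = 2 → Sq m := by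
    rintro m (hm | hm) hmo
    · obtain ⟨i, rfl⟩ := Subgroup.mem_zpowers_iff.mp hm
      have h0 : ((2 ^ (k + 2) : ℕ) : ℤ) ∣ i * 2 := by
        rw [← hco]
        exact orderOf_dvd_iff_zpow_eq_one.mpr (by
          rw [zpow_mul, zpow_ofNat, pow_two, invol_mul_self hmo])
      obtain ⟨d, hd⟩ := h0
      have hi : i = ((2 ^ (k + 1) : ℕ) : ℤ) * d := by
        push_cast at hd ⊢
        rw [pow_succ] at hd
        linarith
      rw [hi, zpow_mul, zpow_natCast, hcpow] at hmo ⊢
      rcases Int.even_or_odd d with ⟨j, rfl⟩ | ⟨j, rfl⟩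
      · exfalso
        rw [← two_mul, zpow_mul, zpow_ofNat, pow_two, invol_mul_self F.ht, one_zpow, orderOf_one] at hmo
        omega
      · rw [zpow_add, zpow_mul, zpow_ofNat, pow_two, invol_mul_self F.ht, one_zpow, one_mul, zpow_one]
        exact F.sqt
    · obtain ⟨i, hi⟩ := Subgroup.mem_zpowers_iff.mp hm
      have hm' : m = u * c ^ i := by rw [hi, ← mul_assoc, invol_mul_self F.hu.1, one_mul]
      have hconj : ∀ j : ℤ, (c ^ j)⁻¹ * u * c ^ j = u * c ^ (2 * j) := fun j => by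
        rw [← hinv (Subgroup.zpow_mem _ hcc j), two_mul, zpow_add, mul_assoc]
      rcases Int.even_or_odd i with ⟨j, rfl⟩ | ⟨j, rfl⟩
      · rw [hm', ← two_mul, ← hconj j]
        simpa using sq_conj F.hu (c ^ j)⁻¹
      · have e : m = (c ^ j)⁻¹ * r * c ^ j := by
          rw [hm', show r = u * c by rw [hr, hc, mul_assoc], zpow_add, zpow_one, ← mul_assoc, ← hconj j]
          simp only [mul_assoc]
          rw [((Commute.refl c).zpow_right j).eq]
        rw [e]
        simpa using sq_conj hrS (c ^ j)⁻¹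
  have he₁o : orderOf e₁ = 2 := orderOf_eq_prime (by rw [pow_two, he₁2]) he₁1
  have he₁M : e₁ ∉ M := fun hm => he₁t (F.sq_core h hG he₁ (hMsq e₁ hm he₁o))
  have hcover : ∀ b ∈ T, b ∈ M ∨ b * e₁ ∈ M := by
    have hcore' : ∀ a ∈ core T x, a ∈ Subgroup.zpowers c ∨ a * e₁ ∈ Subgroup.zpowers c := by
      intro a ha
      obtain ⟨i, e, he, he2, rfl⟩ := hgen a ha
      have hgi : g ^ i = c ^ i * e₂ ^ i := by
        rw [hc, hge.mul_zpow, mul_assoc, ← zpow_add, ← two_mul, zpow_mul, zpow_ofNat, pow_two, he₂2, one_zpow, mul_one]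
      have hci : c ^ i ∈ Subgroup.zpowers c := Subgroup.zpow_mem _ (Subgroup.mem_zpowers c) i
      have hE : e₂ ^ i * e ∈ core T x := mul_mem (Subgroup.zpow_mem _ he₂ i) he
      have hE2 : e₂ ^ i * e * (e₂ ^ i * e) = 1 := by
        rw [(F.core_comm h hG he (Subgroup.zpow_mem _ he₂ i)).mul_mul_mul_comm, he2, mul_one, ← zpow_add, ← two_mul,
          zpow_mul, zpow_ofNat, pow_two, he₂2, one_zpow]
      rw [hgi, mul_assoc]
      rcases hfour _ hE hE2 with h1 | h1 | h1 | h1 <;> rw [h1]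
      · left; rw [mul_one]; exact hci
      · left; exact mul_mem hci htc
      · right; rw [mul_assoc, he₁2, mul_one]; exact hci
      · right
        rw [mul_assoc, mul_assoc, (F.core_comm h hG F.t_core he₁).eq, ← mul_assoc e₁, he₁2, one_mul]
        exact mul_mem hci htc
    intro b hb
    by_cases hbc : b ∈ core T x
    · exact (hcore' b hbc).imp Or.inl Or.inl
    · have hub : u * b ∈ core T x := by
        have := F.mul_u_core h hb hbc
        have h2 := F.inv_core h hG this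
        rw [invol_inv F.hu.1, show u * (b * u) * u = u * b * (u * u) by group, invol_mul_self F.hu.1, mul_one] at h2
        exact h2 ▸ inv_mem this
      exact (hcore' _ hub).imp Or.inr (fun h' => Or.inr (by rw [← mul_assoc]; exact h'))
  have hidx : M.relIndex (P : Subgroup G) = 2 := by
    rw [hP, Subgroup.relIndex, Subgroup.index_eq_two_iff]
    refine ⟨⟨e₁, (mem_core.mp he₁).1⟩, fun b => ?_⟩
    simp only [Subgroup.mem_subgroupOf, Subgroup.coe_mul]
    have hnot : ¬ ((b : G) ∈ M ∧ (b : G) * e₁ ∈ M) := fun hh => he₁M (by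
      have := mul_mem (inv_mem hh.1) hh.2
      rwa [inv_mul_cancel_left] at this)
    rcases hcover b b.2 with h1 | h1
    · exact Or.inr ⟨h1, fun h2 => hnot ⟨h1, h2⟩⟩
    · exact Or.inl ⟨h1, fun h2 => hnot ⟨h2, h1⟩⟩
  rcases Cfsg.Agent.S0111.result P M (hP ▸ hMT) hidx e₁ he₁o (hP ▸ (mem_core.mp he₁).1) he₁M with
    ⟨N, hN, hNi, -⟩ | ⟨a, ha⟩
  · exact no_index_two hG hN hNi
  · have hao : orderOf (a * e₁ * a⁻¹) = 2 :=
      (orderOf_injective (MulAut.conj a).toMonoidHom (MulAut.conj a).injective e₁).trans he₁o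
    have h1 := sq_conj (hMsq _ ha hao) a⁻¹
    rw [show a⁻¹ * (a * e₁ * a⁻¹) * a⁻¹⁻¹ = e₁ by group] at h1
    exact he₁t (F.sq_core h hG he₁ h1)

end Frame

end CfsgLib.CyclicTITwo
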