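import Cfsg.Agent.Lib.CyclicTITwo.Kill
import Cfsg.Agent.Lib.CyclicTITwo.A7
import Cfsg.Agent.Lib.WalterUse.Ward.Final

/-!
The simple groups whose cyclic subgroups of prime power order are TI sets.
-/

set_option autoImplicit false
set_option linter.unusedSectionVars false
set_option linter.style.haveILetI false

namespace CfsgLib.CyclicTITwo

open CfsgLib.WalterUse.Ward (CyclicTI)

universe u v

local notation "PSL₂[" K "]" => Matrix.ProjectiveSpecialLinearGroup (Fin 2) K

theorem cyclicTI_of_equiv {G : Type u} [Group G] {G' : Type v} [Group G'] (e : G ≃* G') (h : CyclicTI G') :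
    CyclicTI G := by
  intro H hH hpp g
  have hinj : Function.Injective (Subgroup.map e.toMonoidHom) := Subgroup.map_injective e.injective
  have hcyc : IsCyclic (H.map e.toMonoidHom) := by
    haveI := hH
    exact isCyclic_of_surjective (H.equivMapOfInjective e.toMonoidHom e.injective)
      (MulEquiv.surjective _)
  have hc : (H.map (MulAut.conj g).toMonoidHom).map e.toMonoidHom =
      (H.map e.toMonoidHom).map (MulAut.conj (e g)).toMonoidHom := by
    rw [Subgroup.map_map, Subgroup.map_map]
    congr 1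
    ext a
    simp
  rcases h (H.map e.toMonoidHom) hcyc (by rwa [Subgroup.card_map_of_injective e.injective]) (e g) with h1 | h1
  · exact Or.inl (hinj (hc.trans h1))
  · refine Or.inr (hinj ?_)
    rw [Subgroup.map_inf _ _ _ e.injective, hc, h1, Subgroup.map_bot]

variable {G : Type u} [Group G] [Finite G] [IsSimpleGroup G]

/-- The classification. -/
theorem classify (hG : ¬ IsMulCommutative G) (h : CyclicTI G) :
    (∃ (F : Type) (_ : Field F) (_ : Fintype F), 3 < Fintype.card F ∧ Nonempty (G ≃* PSL₂[F])) ∨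
      Cfsg.Spor.IsoJ1 G := by
  classical
  letI := Fintype.ofFinite G
  haveI := Fact.mk Nat.prime_two
  by_cases hB : NoInv G
  · obtain ⟨P⟩ : Nonempty (Sylow 2 G) := inferInstance
    cases CfsgLib.WalterUse.Ward.abKind_of hG P (abelian_of_noInv h hG hB P) with
    | psl F h4 hq e => exact Or.inl ⟨F, _, _, by omega, ⟨e⟩⟩
    | ree hR =>
      obtain ⟨F, _, _, _, C, ⟨S⟩⟩ := CfsgLib.WalterUse.Ward.exists_sys hR
      exact absurd h S.not_cyclicTI
    | janko hJ => exact Or.inr hJ
  · unfold NoInv at hB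
    push Not at hB
    obtain ⟨t, s, x, ht, hs, hts, hx, hsx⟩ := hB
    have hux : s * x * s⁻¹ = x⁻¹ :=
      (root_conj h ht.1 hx hts.symm).resolve_left fun e => hsx (mul_inv_eq_iff_eq_mul.mp e)
    obtain ⟨T, F⟩ := exists_frame_of_inverts ht.1 hs hx hux hts
    obtain ⟨P, hP⟩ := F.exists_sylow h hG
    obtain ⟨n, hn, ⟨e⟩⟩ := F.dihedral_of_core h hG fun a ha ha2 => F.core_invol h hG ha ha2
    rcases CfsgLib.WalterUse.dihedralKind hG P hn ((MulEquiv.subgroupCongr hP).trans e) with
      ⟨K, _, _, -, h3, ⟨f⟩⟩ | ⟨⟨f⟩⟩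
    · exact Or.inl ⟨K, _, _, h3, ⟨f⟩⟩
    · exact absurd h (not_cyclicTI_a7 f)

end CfsgLib.CyclicTITwo
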