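import Cfsg.Agent.Lib.CyclicTITwo.Basic
import Cfsg.Agent.S1169
import Cfsg.Agent.S1225

/-!
Simple groups whose cyclic subgroups of prime power order are TI sets: if no square involution inverts a root of
another, the Sylow 2-subgroups are abelian.
-/

set_option autoImplicit false
set_option linter.unusedSectionVars false
set_option linter.style.haveILetI false

namespace CfsgLib.CyclicTITwo

open CfsgLib.WalterUse.Ward (CyclicTI)

universe u

variable {G : Type u} [Group G] [Finite G]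

/-- Commuting square involutions centralise each other's roots. -/
def NoInv (G : Type u) [Group G] : Prop :=
  ∀ t s x : G, Sq t → Sq s → Commute t s → x * x = t → Commute s x

theorem odd_pow_two_dvd {b : ℤ} (hb : Odd b) (j : ℕ) : (2 : ℤ) ^ (j + 3) ∣ b ^ 2 ^ (j + 1) - 1 := by
  induction j with
  | zero =>
    obtain ⟨i, rfl⟩ := hb
    obtain ⟨c, hc⟩ := Int.even_mul_succ_self i
    exact ⟨c, by
      have : (2 * i + 1) ^ 2 ^ (0 + 1) - 1 = 4 * (i * (i + 1)) := by ring
      rw [this, hc]; ring⟩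
  | succ j ih =>
    have he : b ^ 2 ^ (j + 1 + 1) - 1 = (b ^ 2 ^ (j + 1) - 1) * (b ^ 2 ^ (j + 1) + 1) := by
      rw [show (2 : ℕ) ^ (j + 1 + 1) = 2 ^ (j + 1) * 2 from pow_succ 2 (j + 1), pow_mul]; ring
    rw [he, show (2 : ℤ) ^ (j + 1 + 3) = 2 ^ (j + 3) * 2 by ring]
    refine mul_dvd_mul ih ?_
    obtain ⟨c, hc⟩ := hb.pow (n := 2 ^ (j + 1))
    exact ⟨c + 1, by rw [hc]; ring⟩

/-- The involution in a cyclic 2-group. -/
theorem top_invol {g : G} {k : ℕ} (hg : orderOf g = 2 ^ (k + 1)) : orderOf (g ^ 2 ^ k) = 2 := by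
  rw [orderOf_pow' _ (by positivity), hg, Nat.gcd_eq_right (pow_dvd_pow 2 (by omega)), pow_succ,
    Nat.mul_div_cancel_left _ (by positivity)]

theorem sq_top {g : G} {k : ℕ} (hg : orderOf g = 2 ^ (k + 2)) : Sq (g ^ 2 ^ (k + 1)) :=
  ⟨top_invol hg, g ^ 2 ^ k, by rw [← pow_add, ← two_mul, ← pow_succ']⟩

theorem exists_pow_two_order (T : Subgroup G) (hT : IsPGroup 2 T) {g : G} (hg : g ∈ T) : ∃ k, orderOf g = 2 ^ k := by
  haveI := Fact.mk Nat.prime_two
  obtain ⟨n, hn⟩ := hT ⟨g, hg⟩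
  obtain ⟨k, -, hk⟩ :=
    (Nat.dvd_prime_pow Nat.prime_two).mp (orderOf_dvd_of_pow_eq_one (congrArg Subtype.val hn : g ^ 2 ^ n = 1))
  exact ⟨k, hk⟩

/-- Square involutions in a 2-group commute. -/
theorem sq_commute (hB : NoInv G) (T : Subgroup G) (hT : IsPGroup 2 T) {r s : G} (hr : Sq r) (hs : Sq s)
    (hrT : r ∈ T) (hsT : s ∈ T) : Commute r s := by
  obtain ⟨k, hk⟩ := exists_pow_two_order T hT (mul_mem hrT hsT)
  have hd : r * (r * s) * r⁻¹ = (r * s)⁻¹ := by
    rw [mul_inv_rev, invol_inv hs.1, invol_inv hr.1, ← mul_assoc, invol_mul_self hr.1, one_mul]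
  rcases Nat.lt_or_ge k 2 with hk2 | hk2
  · have h2 : (r * s) ^ 2 = 1 := by
      refine orderOf_dvd_iff_pow_eq_one.mp (hk ▸ ?_)
      calc 2 ^ k ∣ 2 ^ 1 := pow_dvd_pow 2 (by omega)
        _ = 2 := pow_one 2
    rw [pow_two] at h2
    show r * s = s * r
    rw [eq_inv_of_mul_eq_one_left h2, mul_inv_rev, invol_inv hs.1, invol_inv hr.1]
  exfalso
  obtain ⟨j, rfl⟩ : ∃ j, k = j + 2 := ⟨k - 2, by omega⟩
  have hp := sq_top hk
  set z := (r * s) ^ 2 ^ j
  have hz : z * z = (r * s) ^ 2 ^ (j + 1) := by rw [← pow_add, ← two_mul, ← pow_succ']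
  have hrz : r * z * r⁻¹ = z⁻¹ := by rw [← conj_pow, hd, inv_pow]
  have hrp : Commute r ((r * s) ^ 2 ^ (j + 1)) := by
    refine mul_inv_eq_iff_eq_mul.mp ?_
    rw [← conj_pow, hd, inv_pow, invol_inv hp.1]
  have hc := hB _ r z hp hr hrp.symm hz
  rw [hc.eq, mul_inv_cancel_right] at hrz
  exact root_ne_inv hp.1 hz hrz

variable [IsSimpleGroup G]

/-- In a simple group with a strongly embedded subgroup the involutions are conjugate. -/
theorem all_conj (H : Subgroup G) (hH : Cfsg.IsStronglyEmbedded H) :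
    ∀ a b : G, orderOf a = 2 → orderOf b = 2 → IsConj a b := by
  haveI := Fact.mk Nat.prime_two
  obtain ⟨s, hs⟩ := exists_prime_orderOf_dvd_card' (G := H) 2 (even_iff_two_dvd.mp hH.2.1)
  have hso : orderOf (s : G) = 2 := by rw [Subgroup.orderOf_coe, hs]
  obtain ⟨u, hu, huH⟩ : ∃ u : G, orderOf u = 2 ∧ u ∉ H := by
    by_contra hc
    push Not at hc
    rcases IsSimpleGroup.eq_bot_or_eq_top_of_normal (Subgroup.normalClosure ({(s : G)} : Set G))
      Subgroup.normalClosure_normal with e | e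
    · refine invol_ne hso ?_
      rw [← Subgroup.mem_bot, ← e]
      exact Subgroup.subset_normalClosure (Set.mem_singleton _)
    · refine hH.1 (top_le_iff.mp (e ▸ ?_))
      rw [Subgroup.normalClosure, Subgroup.closure_le]
      intro w hw
      obtain ⟨a, ha, hc'⟩ := Group.mem_conjugatesOfSet_iff.mp hw
      obtain ⟨c, rfl⟩ := isConj_iff.mp hc'
      rw [Set.mem_singleton_iff] at ha
      subst ha
      exact hc _ ((orderOf_injective (MulAut.conj c).toMonoidHom (MulAut.conj c).injective _).trans hso)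
  exact (Cfsg.Agent.S1225.result H hH u hu huH _ _ hso s.2 hso s.2).2

set_option maxHeartbeats 1000000 in
theorem abelian_of_noInv (h : CyclicTI G) (hG : ¬ IsMulCommutative G) (hB : NoInv G) (P : Sylow 2 G) :
    IsMulCommutative (P : Subgroup G) := by
  classical
  haveI := Fact.mk Nat.prime_two
  by_contra hnab
  have hnab' : ¬ ∀ a ∈ P, ∀ b ∈ P, a * b = b * a := fun hab =>
    hnab ⟨⟨fun a b => Subtype.ext (hab a a.2 b b.2)⟩⟩
  have hcomm : ∀ r ∈ P, ∀ s ∈ P, Sq r → Sq s → Commute r s := fun r hr s hs h1 h2 =>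
    sq_commute hB P P.2 h1 h2 hr hs
  let E : Subgroup G :=
    { carrier := {e | e ∈ P ∧ (e = 1 ∨ Sq e)}
      one_mem' := ⟨one_mem _, Or.inl rfl⟩
      mul_mem' := fun {a b} ha hb => ⟨mul_mem ha.1 hb.1, by
        rcases ha.2 with rfl | ha'
        · rw [one_mul]; exact hb.2
        rcases hb.2 with rfl | hb'
        · rw [mul_one]; exact ha.2
        rcases eq_or_ne a b with rfl | hne
        · exact Or.inl (invol_mul_self ha'.1)
        · exact Or.inr (sq_mul h ha' hb' hne (hcomm a ha.1 b hb.1 ha' hb'))⟩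
      inv_mem' := fun {a} ha => ⟨inv_mem ha.1, by
        rcases ha.2 with rfl | ha'
        · exact Or.inl inv_one
        · rw [invol_inv ha'.1]; exact ha.2⟩ }
  have hEab : IsMulCommutative E := ⟨⟨fun a b => Subtype.ext (by
    rcases a.2.2 with ha | ha
    · simp [ha]
    rcases b.2.2 with hb | hb
    · simp [hb]
    exact (hcomm a a.2.1 b b.2.1 ha hb).eq)⟩⟩
  -- an element of order four
  obtain ⟨g₁, hg₁, k₁, hk₁⟩ : ∃ g ∈ P, ∃ k, orderOf g = 2 ^ (k + 2) := by
    by_contra hc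
    push Not at hc
    have h2 : ∀ g ∈ P, g * g = 1 := fun g hg => by
      obtain ⟨k, hk⟩ := exists_pow_two_order (P : Subgroup G) P.2 hg
      rcases Nat.lt_or_ge k 2 with hk2 | hk2
      · rw [← pow_two]
        refine orderOf_dvd_iff_pow_eq_one.mp (hk ▸ ?_)
        calc 2 ^ k ∣ 2 ^ 1 := pow_dvd_pow 2 (by omega)
          _ = 2 := pow_one 2
      · exact absurd (by rw [hk, Nat.sub_add_cancel hk2]) (hc g hg (k - 2))
    refine hnab' fun a ha b hb => ?_
    calc a * b = (a * b)⁻¹ := eq_inv_of_mul_eq_one_left (h2 _ (mul_mem ha hb))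
      _ = b⁻¹ * a⁻¹ := mul_inv_rev a b
      _ = b * a := by rw [inv_eq_of_mul_eq_one_left (h2 a ha), inv_eq_of_mul_eq_one_left (h2 b hb)]
  have hq₁ := sq_top hk₁
  have hEne : E ≠ ⊥ := fun e => invol_ne hq₁.1 (by
    rw [← Subgroup.mem_bot, ← e]
    exact ⟨pow_mem hg₁ _, Or.inr hq₁⟩)
  have hsc : Cfsg.IsStronglyClosed E (P : Subgroup G) := ⟨fun e he => he.1, fun e he g hge => ⟨hge, by
    rcases he.2 with rfl | he'
    · simp
    · exact Or.inr (sq_conj he' g)⟩⟩
  -- all involutions are conjugate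
  obtain ⟨H, hH⟩ := (Cfsg.Agent.S1169.result P E hEne hEab hsc).resolve_left hnab
  have hall := all_conj H hH
  have hSq : ∀ a : G, orderOf a = 2 → Sq a := fun a ha => by
    obtain ⟨c, rfl⟩ := isConj_iff.mp (hall _ a hq₁.1 ha)
    exact sq_conj hq₁ c
  -- involutions are central
  have hcen : ∀ e ∈ P, orderOf e = 2 → ∀ g ∈ P, Commute e g := by
    intro e he heo g hg
    obtain ⟨k, hk⟩ := exists_pow_two_order (P : Subgroup G) P.2 hg
    rcases k with _ | _ | j
    · rw [pow_zero, orderOf_eq_one_iff] at hk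
      exact hk ▸ Commute.one_right e
    · exact hcomm e he g hg (hSq e heo) (hSq g (by simpa using hk))
    set r := g ^ 2 ^ (j + 1) with hr
    have hrS := sq_top hk
    have her : Commute e r := hcomm e he r (pow_mem hg _) (hSq e heo) hrS
    rcases j with _ | i
    · exact hB r e g hrS (hSq e heo) her.symm (by rw [hr, zero_add, pow_one, pow_two])
    obtain ⟨c, hc⟩ := isConj_iff.mp (hall r e hrS.1 heo)
    set w := c * g * c⁻¹ with hw
    have hwo : orderOf w = 2 ^ (i + 1 + 2) :=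
      (orderOf_injective (MulAut.conj c).toMonoidHom (MulAut.conj c).injective g).trans hk
    have hwe : w ^ 2 ^ (i + 1 + 1) = e := by rw [hw, conj_pow, ← hc]
    -- `r` centralises `w ^ 2`
    obtain ⟨a, ha⟩ := Subgroup.mem_zpowers_iff.mp
      (ti_norm h (k := i + 1 + 1) (g := r) hwo (by rw [hwe]; exact her.symm))
    have hra : ∀ m : ℤ, r * w ^ m * r⁻¹ = w ^ (a * m) := fun m => by rw [← conj_zpow, ← ha, ← zpow_mul]
    have hroot : Commute r (w ^ 2 ^ (i + 1)) := hB e r _ (hSq e heo) hrS her (by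
      rw [← pow_add, ← two_mul, ← pow_succ', hwe])
    have hd1 : ((2 ^ (i + 3) : ℕ) : ℤ) ∣ (a - 1) * ((2 ^ (i + 1) : ℕ) : ℤ) := by
      rw [show i + 3 = i + 1 + 2 by omega, ← hwo]
      refine orderOf_dvd_iff_zpow_eq_one.mpr ?_
      rw [sub_mul, one_mul, zpow_sub, ← hra, zpow_natCast, hroot.eq, mul_inv_cancel_right, mul_inv_cancel]
    have hd2 : ((2 ^ (i + 3) : ℕ) : ℤ) ∣ a * a - 1 := by
      rw [show i + 3 = i + 1 + 2 by omega, ← hwo]
      refine orderOf_dvd_iff_zpow_eq_one.mpr ?_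
      have e1 := hra a
      rw [ha, show r * (r * w * r⁻¹) * r⁻¹ = r * r * w * (r * r)⁻¹ by group, invol_mul_self hrS.1, one_mul, inv_one,
        mul_one] at e1
      rw [zpow_sub, ← e1, zpow_one, mul_inv_cancel]
    push_cast at hd1 hd2
    have h4 : (4 : ℤ) ∣ a - 1 := by
      rw [show (2 : ℤ) ^ (i + 3) = 4 * 2 ^ (i + 1) by ring] at hd1
      exact (mul_dvd_mul_iff_right (by positivity)).mp hd1
    obtain ⟨m, hm⟩ := h4
    have hd3 : (2 : ℤ) ^ (i + 3) ∣ 2 * (a - 1) := by
      have e1 : a * a - 1 = 2 * (a - 1) * (2 * m + 1) := by rw [show a = 4 * m + 1 by omega]; ring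
      rw [e1] at hd2
      refine IsCoprime.dvd_of_dvd_mul_right (IsCoprime.pow_left ?_) hd2
      exact ⟨-m, 1, by ring⟩
    have hw2 : Commute r (w ^ 2) := by
      refine mul_inv_eq_iff_eq_mul.mp ?_
      have e1 : w ^ (2 * (a - 1)) = 1 := orderOf_dvd_iff_zpow_eq_one.mp (by rw [hwo]; push_cast; exact hd3)
      have e2 := hra 2
      rw [zpow_ofNat] at e2
      rw [e2, show a * 2 = ((2 : ℕ) : ℤ) + 2 * (a - 1) by push_cast; ring, zpow_add, e1, mul_one, zpow_natCast]
    -- so `e` is a power of an element normalising `⟨g⟩`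
    obtain ⟨b, hb⟩ := Subgroup.mem_zpowers_iff.mp
      (ti_norm h (k := i + 1 + 1) (g := w ^ 2) hk (by rw [← hr]; exact hw2.symm))
    have hit : ∀ m : ℕ, (w ^ 2) ^ m * g * ((w ^ 2) ^ m)⁻¹ = g ^ (b ^ m) := by
      intro m
      induction m with
      | zero => simp
      | succ m ih =>
        rw [pow_succ', show w ^ 2 * (w ^ 2) ^ m * g * (w ^ 2 * (w ^ 2) ^ m)⁻¹ =
          w ^ 2 * ((w ^ 2) ^ m * g * ((w ^ 2) ^ m)⁻¹) * (w ^ 2)⁻¹ by group, ih, ← conj_zpow, ← hb, ← zpow_mul,
          ← pow_succ']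
    have hbodd : Odd b := by
      rw [← Int.not_even_iff_odd]
      rintro ⟨n, rfl⟩
      have h1 : orderOf (w ^ 2 * g * (w ^ 2)⁻¹) = 2 ^ (i + 1 + 2) :=
        (orderOf_injective (MulAut.conj (w ^ 2)).toMonoidHom (MulAut.conj (w ^ 2)).injective g).trans hk
      rw [← hb] at h1
      have h2 : (g ^ (n + n)) ^ 2 ^ (i + 1 + 1) = 1 := by
        rw [← zpow_natCast, ← zpow_mul, show (n + n) * ((2 ^ (i + 1 + 1) : ℕ) : ℤ) =
          ((2 ^ (i + 1 + 2) : ℕ) : ℤ) * n by push_cast; ring, zpow_mul, zpow_natCast, ← hk, pow_orderOf_eq_one,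
          one_zpow]
      have h3 := Nat.le_of_dvd (by positivity) (orderOf_dvd_of_pow_eq_one h2)
      rw [h1] at h3
      exact absurd h3 (not_le.mpr (Nat.pow_lt_pow_right (by norm_num) (by omega)))
    refine mul_inv_eq_iff_eq_mul.mp ?_
    have e3 := hit (2 ^ (i + 1))
    rw [← pow_mul, ← pow_succ', hwe] at e3
    rw [e3, show b ^ 2 ^ (i + 1) = (b ^ 2 ^ (i + 1) - 1) + 1 by ring, zpow_add, zpow_one,
      orderOf_dvd_iff_zpow_eq_one.mp (by
        rw [hk]; push_cast; exact (show i + 1 + 2 = i + 3 by omega) ▸ odd_pow_two_dvd hbodd i), one_mul]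
  -- the Sylow subgroup is abelian
  refine hnab' ?_
  suffices key : ∀ n : ℕ, ∀ a ∈ P, ∀ b ∈ P, orderOf a + orderOf b = n → orderOf b ≤ orderOf a → a * b = b * a by
    intro a ha b hb
    rcases le_total (orderOf b) (orderOf a) with hle | hle
    · exact key _ a ha b hb rfl hle
    · exact (key _ b hb a ha rfl hle).symm
  intro n
  induction n using Nat.strong_induction_on with
  | _ n ih =>
    intro a ha b hb hn hle
    have ih' : ∀ d ∈ P, orderOf d < orderOf b → a * d = d * a := fun d hd hlt =>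
      ih (orderOf a + orderOf d) (by omega) a ha d hd rfl (by omega)
    obtain ⟨ka, hka⟩ := exists_pow_two_order (P : Subgroup G) P.2 ha
    obtain ⟨kb, hkb⟩ := exists_pow_two_order (P : Subgroup G) P.2 hb
    rcases kb with _ | _ | j
    · rw [pow_zero, orderOf_eq_one_iff] at hkb
      rw [hkb, mul_one, one_mul]
    · exact (hcen b hb (by simpa using hkb) a ha).symm.eq
    have hjk : j + 2 ≤ ka := by
      rw [hka, hkb] at hle
      exact (Nat.pow_le_pow_iff_right (by norm_num)).mp hle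
    obtain ⟨i, rfl⟩ : ∃ i, ka = j + i + 2 := ⟨ka - (j + 2), by omega⟩
    by_contra hne
    set r := a ^ 2 ^ (j + i + 1) with hr
    set r' := b ^ 2 ^ (j + 1) with hr'
    have hrS := sq_top hka
    have hr'S := sq_top hkb
    have n1 : a * b * a⁻¹ ∈ Subgroup.zpowers b :=
      ti_norm h (k := j + 1) hkb (hcen _ (pow_mem hb _) hr'S.1 a ha).symm
    have n2 : b * a * b⁻¹ ∈ Subgroup.zpowers a :=
      ti_norm h (k := j + i + 1) hka (hcen _ (pow_mem ha _) hrS.1 b hb).symm
    set c := a * b * a⁻¹ * b⁻¹ with hc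
    have hcb : c ∈ Subgroup.zpowers b := mul_mem n1 (inv_mem (Subgroup.mem_zpowers b))
    have hca : c ∈ Subgroup.zpowers a := by
      rw [hc, show a * b * a⁻¹ * b⁻¹ = a * (b * a * b⁻¹)⁻¹ by group]
      exact mul_mem (Subgroup.mem_zpowers a) (inv_mem n2)
    obtain ⟨nb, hnb⟩ := Subgroup.mem_zpowers_iff.mp hcb
    obtain ⟨na, hna⟩ := Subgroup.mem_zpowers_iff.mp hca
    have hcb' : Commute c b := hnb ▸ (Commute.refl b).zpow_left nb
    have hca' : Commute c a := hna ▸ (Commute.refl a).zpow_left na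
    have hb2 : Commute a (b * b) := ih' (b * b) (mul_mem hb hb) (by
      rw [← pow_two, orderOf_pow' _ two_ne_zero, hkb, Nat.gcd_eq_right (dvd_pow_self 2 (by omega))]
      exact Nat.div_lt_self (by positivity) (by norm_num))
    have hab : a * b = c * b * a := by rw [hc]; group
    have hc2 : c * c = 1 := by
      have e1 : a * (b * b) * a⁻¹ = c * c * (b * b) := by
        calc a * (b * b) * a⁻¹ = (a * b * a⁻¹) * (a * b * a⁻¹) := by group
          _ = (c * b) * (c * b) := by rw [hc]; group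
          _ = c * c * (b * b) := hcb'.symm.mul_mul_mul_comm c b
      rw [hb2.eq, mul_inv_cancel_right] at e1
      exact mul_eq_right.mp e1.symm
    have hc1 : c ≠ 1 := fun e => hne (by rw [hab, e, one_mul])
    have htop : ∀ {v : G} {k : ℕ}, orderOf v = 2 ^ (k + 1) → c ∈ Subgroup.zpowers v → c = v ^ 2 ^ k := by
      intro v k hv hm
      obtain ⟨m, hm⟩ := Subgroup.mem_zpowers_iff.mp hm
      have hd : ((2 ^ (k + 1) : ℕ) : ℤ) ∣ m + m := by
        rw [← hv]
        exact orderOf_dvd_iff_zpow_eq_one.mpr (by rw [zpow_add, hm, hc2])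
      obtain ⟨d, hd⟩ := hd
      have hm' : m = ((2 ^ k : ℕ) : ℤ) * d := by
        push_cast at hd ⊢
        rw [pow_succ] at hd
        linarith
      rcases Int.even_or_odd d with ⟨e, rfl⟩ | ⟨e, rfl⟩
      · exfalso
        refine hc1 ?_
        rw [← hm, hm', show ((2 ^ k : ℕ) : ℤ) * (e + e) = ((2 ^ (k + 1) : ℕ) : ℤ) * e by push_cast; ring, zpow_mul,
          zpow_natCast, ← hv, pow_orderOf_eq_one, one_zpow]
      · rw [← hm, hm', show ((2 ^ k : ℕ) : ℤ) * (2 * e + 1) = ((2 ^ (k + 1) : ℕ) : ℤ) * e + ((2 ^ k : ℕ) : ℤ) by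
          push_cast; ring, zpow_add, zpow_mul, zpow_natCast, zpow_natCast, ← hv, pow_orderOf_eq_one, one_zpow, one_mul]
    have hrr : r = r' := (htop hka hca).symm.trans (htop hkb hcb)
    -- a product of smaller order
    rcases Nat.eq_zero_or_pos (j + i) with h0 | h0
    · obtain ⟨rfl, rfl⟩ : j = 0 ∧ i = 0 := by omega
      refine hne (roots_comm h hG hrS.1 (t := r) ?_ ?_).eq
      · rw [hr]; simp [pow_two]
      · rw [hrr, hr']; simp [pow_two]
    rcases Nat.eq_zero_or_pos i with rfl | hi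
    · -- equal orders
      have hd' : orderOf (b * a) ≤ 2 ^ (j + 1) := by
        refine Nat.le_of_dvd (by positivity) (orderOf_dvd_of_pow_eq_one ?_)
        have e1 : (b * a) * (b * a) = c * (b * b) * (a * a) := by
          calc (b * a) * (b * a) = b * (a * b) * a := by group
            _ = b * c * b * a * a := by rw [hab]; group
            _ = c * b * b * a * a := by rw [← hcb'.eq]
            _ = c * (b * b) * (a * a) := by group
        rw [show 2 ^ (j + 1) = 2 * 2 ^ j from pow_succ' 2 j, pow_mul, pow_two (b * a), e1,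
          ((hca'.mul_right hca').mul_left ((hb2.symm).mul_right hb2.symm)).mul_pow,
          (hcb'.mul_right hcb').mul_pow, ← pow_two b, ← pow_two a, ← pow_mul b, ← pow_mul a, ← pow_succ']
        obtain ⟨j', rfl⟩ : ∃ j', j = j' + 1 := ⟨j - 1, by omega⟩
        rw [pow_succ' 2 j', pow_mul c, pow_two c, hc2, one_pow, one_mul, ← hr']
        rw [add_zero] at hr
        rw [← hr, hrr, invol_mul_self hr'S.1]
      have := ih' (b * a) (mul_mem hb ha) (by
        rw [hkb]; exact lt_of_le_of_lt hd' (Nat.pow_lt_pow_right (by norm_num) (by omega)))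
      exact hne (mul_right_cancel (b := a) (by rw [mul_assoc, this]))
    · have hcm : Commute (a ^ 2 ^ i) b := by
        obtain ⟨i', rfl⟩ : ∃ i', i = i' + 1 := ⟨i - 1, by omega⟩
        rw [pow_succ' 2 i', pow_mul]
        refine Commute.pow_left ?_ _
        show a ^ 2 * b = b * a ^ 2
        calc a ^ 2 * b = a * (a * b) := by rw [pow_two]; group
          _ = c * (a * b) * a := by rw [show a * (a * b) = a * c * (b * a) by rw [hab]; group, ← hca'.eq]; group
          _ = c * c * (b * a ^ 2) := by rw [hab, pow_two]; group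
          _ = b * a ^ 2 := by rw [hc2, one_mul]
      have hd' : orderOf (b * a ^ 2 ^ i) ≤ 2 ^ (j + 1) := by
        refine Nat.le_of_dvd (by positivity) (orderOf_dvd_of_pow_eq_one ?_)
        rw [hcm.symm.mul_pow, ← pow_mul, ← pow_add, show i + (j + 1) = j + i + 1 by omega, ← hr, ← hr', hrr,
          invol_mul_self hr'S.1]
      have := ih' (b * a ^ 2 ^ i) (mul_mem hb (pow_mem ha _)) (by
        rw [hkb]; exact lt_of_le_of_lt hd' (Nat.pow_lt_pow_right (by norm_num) (by omega)))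
      refine hne (mul_right_cancel (b := a ^ 2 ^ i) ?_)
      rw [mul_assoc, this, mul_assoc, mul_assoc, ← ((Commute.refl a).pow_left (2 ^ i)).eq]

end CfsgLib.CyclicTITwo
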