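import Cfsg.Agent.Lib.CyclicTITwo.Frame
import Cfsg.Agent.Lib.DihedralShape

/-!
Simple groups whose cyclic subgroups of prime power order are TI sets: the core of a frame is cyclic times elementary
abelian, and the group `T` around it.
-/

set_option autoImplicit false
set_option linter.unusedSectionVars false
set_option linter.style.haveILetI false

namespace CfsgLib.CyclicTITwo

open CfsgLib.WalterUse.Ward (CyclicTI)

universe u

variable {G : Type u} [Group G] [Finite G]

namespace Frame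

variable {t u x : G} {T : Subgroup G} (F : Frame t u x T)
variable [IsSimpleGroup G] (h : CyclicTI G) (hG : ¬ IsMulCommutative G)
include F h hG

theorem exists_gen : ∃ g ∈ core T x, ∃ k, orderOf g = 2 ^ (k + 2) ∧
    ∀ a ∈ core T x, ∃ (i : ℤ) (e : G), e ∈ core T x ∧ e * e = 1 ∧ a = g ^ i * e := by
  classical
  haveI := Fintype.ofFinite G
  obtain ⟨g, hg, hmax⟩ := (Finset.univ.filter (· ∈ core T x)).exists_max_image orderOf
    ⟨x, by simpa using F.x_core⟩
  simp only [Finset.mem_filter, Finset.mem_univ, true_and] at hg hmax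
  obtain ⟨n, hn⟩ := exists_pow_two_order T F.hT (mem_core.mp hg).1
  have hn2 : 2 ≤ n := by
    have := hmax x F.x_core
    rw [orderOf_root F.ht F.hx, hn] at this
    exact (Nat.pow_le_pow_iff_right (by norm_num : 1 < 2)).mp (by simpa using this)
  obtain ⟨k, rfl⟩ : ∃ k, n = k + 2 := ⟨n - 2, by omega⟩
  refine ⟨g, hg, k, hn, fun a ha => ?_⟩
  obtain ⟨m, hm⟩ := exists_pow_two_order T F.hT (mem_core.mp ha).1
  induction m using Nat.strong_induction_on generalizing a with
  | _ m ih =>
    rcases Nat.lt_or_ge m 2 with hm2 | hm2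
    · refine ⟨0, a, ha, ?_, by simp⟩
      rw [← pow_two]
      refine orderOf_dvd_iff_pow_eq_one.mp (hm ▸ ?_)
      calc 2 ^ m ∣ 2 ^ 1 := pow_dvd_pow 2 (by omega)
        _ = 2 := pow_one 2
    obtain ⟨j, rfl⟩ : ∃ j, m = j + 2 := ⟨m - 2, by omega⟩
    have hjk : j ≤ k := by
      have := hmax a ha
      rw [hm, hn] at this
      have := (Nat.pow_le_pow_iff_right (by norm_num : 1 < 2)).mp this
      omega
    set b := a * (g ^ 2 ^ (k - j))⁻¹ with hb
    have hbc : b ∈ core T x := mul_mem ha (inv_mem (pow_mem hg _))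
    have hb1 : b ^ 2 ^ (j + 1) = 1 := by
      rw [hb, ((F.core_comm h hG ha (inv_mem (pow_mem hg _)))).mul_pow, inv_pow, ← pow_mul, ← pow_add,
        show k - j + (j + 1) = k + 1 by omega, F.top_eq h hG ha hm, F.top_eq h hG hg hn, mul_inv_cancel]
    obtain ⟨m', hm', hm''⟩ := (Nat.dvd_prime_pow Nat.prime_two).mp (orderOf_dvd_of_pow_eq_one hb1)
    obtain ⟨i, e, he, he2, hie⟩ := ih m' (by omega) b hbc hm''
    refine ⟨i + ((2 ^ (k - j) : ℕ) : ℤ), e, he, he2, ?_⟩
    rw [zpow_add, zpow_natCast, mul_assoc, (F.core_comm h hG (pow_mem hg _) he).eq, ← mul_assoc, ← hie, hb,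
      inv_mul_cancel_right]

theorem core_index : (core T x).relIndex T = 2 := by
  rw [Subgroup.relIndex, Subgroup.index_eq_two_iff]
  refine ⟨⟨u, F.uT⟩, fun b => ?_⟩
  simp only [Subgroup.mem_subgroupOf, Subgroup.coe_mul]
  by_cases hb : (b : G) ∈ core T x
  · refine Or.inr ⟨hb, fun hbu => F.u_not_core ?_⟩
    have := mul_mem (inv_mem hb) hbu
    rwa [inv_mul_cancel_left] at this
  · exact Or.inl ⟨F.mul_u_core h b.2 hb, hb⟩

/-- If `t` is the only involution of the core, `T` is dihedral. -/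
theorem dihedral_of_core (hinv : ∀ e ∈ core T x, e * e = 1 → e = 1 ∨ e = t) :
    ∃ n, 2 ≤ n ∧ Nonempty (T ≃* DihedralGroup n) := by
  obtain ⟨g, hg, k, hk, hgen⟩ := F.exists_gen h hG
  have hcore : core T x = Subgroup.zpowers g := by
    refine le_antisymm (fun a ha => ?_) (Subgroup.zpowers_le.mpr hg)
    obtain ⟨i, e, he, he2, rfl⟩ := hgen a ha
    refine mul_mem (Subgroup.zpow_mem _ (Subgroup.mem_zpowers g) i) ?_
    rcases hinv e he he2 with rfl | rfl
    · exact one_mem _
    · rw [← F.top_eq h hG hg hk]; exact Subgroup.pow_mem _ (Subgroup.mem_zpowers g) _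
  refine ⟨2 ^ (k + 2), ?_, DihedralShape.equiv_dihedral (c := (⟨g, (mem_core.mp hg).1⟩ : T)) (t := ⟨u, F.uT⟩)
    (n := 2 ^ (k + 2)) ?_ ?_ (Subtype.ext (invol_mul_self F.hu.1)) ?_ (Subtype.ext (F.inv_core h hG hg))⟩
  · calc 2 = 2 ^ 1 := rfl
      _ ≤ 2 ^ (k + 2) := Nat.pow_le_pow_right (by norm_num) (by omega)
  · rw [← hk]; exact (Subgroup.orderOf_coe (⟨g, (mem_core.mp hg).1⟩ : T)).symm
  · rw [← Subgroup.card_mul_index ((core T x).subgroupOf T),
      Nat.card_congr (Subgroup.subgroupOfEquivOfLe (show core T x ≤ T from inf_le_left)).toEquiv,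
      show ((core T x).subgroupOf T).index = 2 from F.core_index h hG, hcore, Nat.card_zpowers, hk, mul_comm]
  · intro hm
    obtain ⟨i, hi⟩ := Subgroup.mem_zpowers_iff.mp hm
    refine F.u_not_core ?_
    have e : g ^ i = u := by simpa using congrArg Subtype.val hi
    rw [← e]
    exact Subgroup.zpow_mem _ hg i

end Frame

end CfsgLib.CyclicTITwo
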